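import Cfsg.Agent.H63.TwoGen.Basic
import Cfsg.Agent.H70.Balanced.Rows
import Cfsg.Agent.S0205
import Cfsg.Agent.S0505
import Cfsg.Agent.Coprime.Generation
import Cfsg.Agent.Cores.PSolvable

/-!
# Flavell's theorem: characteristic 2 type

In a minimal counterexample there is no strongly embedded subgroup with a four-group, so a Sylow
2-subgroup with a normal elementary abelian subgroup of order 8 forces characteristic 2 type.
-/

set_option autoImplicit false
set_option linter.style.haveILetI false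
open Cfsg

namespace Cfsg.Agent.H63.TwoGen

open Subgroup

universe u

variable {G : Type u} [Group G] [Finite G]

local instance factTwoC : Fact (Nat.Prime 2) := ⟨Nat.prime_two⟩

theorem se_even_le {H P : Subgroup G} (hH : Cfsg.IsStronglyEmbedded H) (hPH : P ≤ H)
    (hP : ¬ Odd (Nat.card P)) : normalizer (P : Set G) ≤ H := by
  intro g hg
  by_contra hgH
  refine hP ((hH.2.2 g hgH).of_dvd_nat (card_dvd_of_le (le_inf hPH fun x hx => ?_)))
  exact ⟨g⁻¹ * x * g,
    hPH (by simpa using (mem_normalizer_iff.1 (inv_mem hg) x).1 hx), by simp [mul_assoc]⟩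

theorem se_centralizer_le {H : Subgroup G} (hH : Cfsg.IsStronglyEmbedded H) {t : G}
    (ht : orderOf t = 2) (htH : t ∈ H) : centralizer ({t} : Set G) ≤ H := by
  intro g hg
  have hc := mem_centralizer_singleton_iff.1 hg
  by_contra hgH
  have hmem : t ∈ H ⊓ H.map (MulAut.conj g).toMonoidHom :=
    ⟨htH, t, htH, show g * t * g⁻¹ = t by rw [hc, mul_inv_cancel_right]⟩
  have h := (hH.2.2 g hgH).of_dvd_nat (orderOf_dvd_natCard _ hmem)
  rw [ht] at h
  exact absurd h (by decide)

theorem se_two_group_le {H R : Subgroup G} (hH : Cfsg.IsStronglyEmbedded H) (hR : IsPGroup 2 R)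
    {d : G} (hd : orderOf d = 2) (hdR : d ∈ R) (hdH : d ∈ H) : R ≤ H := by
  by_contra hle
  haveI := hR.isNilpotent
  have hlt : (H.subgroupOf R) < ⊤ := lt_top_iff_ne_top.2 fun h => hle (subgroupOf_eq_top.1 h)
  obtain ⟨n, hn, hnH⟩ := SetLike.exists_of_lt
    ((Group.normalizerCondition_of_isNilpotent (G := R)) _ hlt)
  have heven : ¬ Odd (Nat.card ↥(H ⊓ R)) := by
    rw [Nat.not_odd_iff_even, even_iff_two_dvd, ← hd]
    exact orderOf_dvd_natCard _ (show d ∈ H ⊓ R from ⟨hdH, hdR⟩)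
  refine hnH (se_even_le hH (inf_le_left : H ⊓ R ≤ H) heven (mem_normalizer_iff.2 fun x => ?_))
  constructor
  · rintro ⟨hxH, hxR⟩
    exact ⟨(mem_normalizer_iff.1 hn ⟨x, hxR⟩).1 hxH, R.mul_mem (R.mul_mem n.2 hxR) (R.inv_mem n.2)⟩
  · rintro ⟨hxH, hxR⟩
    have hx' : x ∈ R := by simpa [mul_assoc] using R.mul_mem (R.mul_mem (R.inv_mem n.2) hxR) n.2
    exact ⟨(mem_normalizer_iff.1 hn ⟨x, hx'⟩).2 hxH, hx'⟩

/-- A solvable subgroup containing a four-group of a strongly embedded subgroup lies in it. -/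
theorem le_of_four {H K U : Subgroup G} (hH : Cfsg.IsStronglyEmbedded H)
    (hK : Group.IsSolvable K) (hUK : U ≤ K) (hUH : U ≤ H) (hUe : Cfsg.IsElementaryAbelian 2 U)
    (hU4 : Nat.card U = 4) : K ≤ H := by
  have hUp : IsPGroup 2 U := fun x => ⟨1, Subtype.ext (by simpa using hUe.2 x x.2)⟩
  haveI : Nontrivial U := Finite.one_lt_card_iff_nontrivial.1 (by omega)
  obtain ⟨z, hz⟩ := exists_prime_orderOf_dvd_card' (G := U) 2 (by rw [hU4]; norm_num)
  rw [← Subgroup.orderOf_coe] at hz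
  set O : Subgroup G := (Cfsg.oddCore ↥K).map K.subtype with hO
  have hOodd : Odd (Nat.card O) := by
    rw [hO, card_map_of_injective K.subtype_injective]
    exact Cores.odd_card_oddCore
  haveI := hUe.1
  have hOH : O ≤ H := by
    refine Coprime.le_of_centralizer_noncyclic_le (A := U) (M := H) ?_ (fun g hg => ?_) ?_ ?_
    · intro hc
      obtain ⟨g, hg⟩ := hc.exists_generator
      have h1 : orderOf g = Nat.card U := orderOf_eq_card_of_forall_mem_zpowers hg
      have h2 : orderOf g ∣ 2 := orderOf_dvd_of_pow_eq_one (Subtype.ext (by simpa using hUe.2 g g.2))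
      rw [h1, hU4] at h2
      norm_num at h2
    · refine Subgroup.le_normalizer_map _ ⟨⟨g, hUK hg⟩, ?_, rfl⟩
      haveI : (Cfsg.oddCore ↥K).Normal := Cfsg.pPrimeCore_normal _ _
      rw [normalizer_eq_top]; exact mem_top _
    · rw [hU4]
      exact Nat.Coprime.pow_left 2 hOodd.coprime_two_left
    · intro x hx hx1 k hk
      refine se_centralizer_le hH (orderOf_eq_prime (hUe.2 x hx) hx1) (hUH hx) ?_
      exact hk.2
  haveI := hK
  set π := QuotientGroup.mk' (Cfsg.oddCore ↥K) with hπ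
  haveI : Nontrivial (↥K ⧸ Cfsg.oddCore ↥K) := by
    refine ⟨⟨π ⟨z, hUK z.2⟩, 1, fun h => ?_⟩⟩
    have h1 := Subgroup.orderOf_dvd_natCard _ ((QuotientGroup.eq_one_iff _).1 h)
    rw [Subgroup.orderOf_mk, hz] at h1
    exact Nat.not_even_iff_odd.2 (Cores.odd_card_oddCore (G := ↥K)) (even_iff_two_dvd.2 h1)
  have hne : Cfsg.pCore 2 (↥K ⧸ Cfsg.oddCore ↥K) ≠ ⊥ :=
    (Cores.pCore_ne_bot_or_pPrimeCore_ne_bot Cores.isPSolvable_of_isSolvable).resolve_right
      (not_not.2 Cores.pPrimeCore_quotient_pPrimeCore)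
  obtain ⟨T, hT⟩ := (hUp.comap_subtype (K := K) : IsPGroup 2 (U.subgroupOf K)).exists_le_sylow
  set P := (Cfsg.pCore 2 (↥K ⧸ Cfsg.oddCore ↥K)).comap π with hP
  have hPle : P ≤ (T : Subgroup ↥K) ⊔ Cfsg.oddCore ↥K := by
    have h1 : Cfsg.pCore 2 (↥K ⧸ Cfsg.oddCore ↥K) ≤ (T : Subgroup ↥K).map π :=
      Cores.pCore_isPGroup.le_sylow_of_normal (T.mapSurjective (QuotientGroup.mk'_surjective _))
    refine (comap_mono h1).trans ?_
    rw [comap_map_eq, QuotientGroup.ker_mk']
  have hTH : (T : Subgroup ↥K).map K.subtype ≤ H :=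
    se_two_group_le hH (T.2.map _) hz
      ⟨⟨z, hUK z.2⟩, hT z.2, rfl⟩ (hUH z.2)
  have hPH : P.map K.subtype ≤ H := by
    refine (map_mono hPle).trans ?_
    rw [Subgroup.map_sup]
    exact sup_le hTH hOH
  have hPeven : ¬ Odd (Nat.card ↥(P.map K.subtype)) := by
    rw [card_map_of_injective K.subtype_injective, Nat.not_odd_iff_even, even_iff_two_dvd]
    obtain ⟨n, hn⟩ := IsPGroup.iff_card.1
      (Cores.pCore_isPGroup : IsPGroup 2 (Cfsg.pCore 2 (↥K ⧸ Cfsg.oddCore ↥K)))
    rcases Nat.eq_zero_or_pos n with rfl | hpos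
    · rw [pow_zero, card_eq_one] at hn
      exact absurd hn hne
    refine ((dvd_pow_self 2 hpos.ne').trans hn.symm.dvd).trans ?_
    rw [← map_comap_eq_self_of_surjective (f := π) (QuotientGroup.mk'_surjective _)
      (Cfsg.pCore 2 (↥K ⧸ Cfsg.oddCore ↥K)), ← hP]
    exact Subgroup.card_map_dvd P π
  intro k hk
  haveI : P.Normal := inferInstance
  refine se_even_le hH hPH hPeven (Subgroup.le_normalizer_map _ ⟨⟨k, hk⟩, ?_, rfl⟩)
  rw [normalizer_eq_top]; exact mem_top _

/-- No strongly embedded subgroup when a Sylow 2-subgroup contains a four-group. -/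
theorem Hyp.not_stronglyEmbedded (h : Hyp G) (S : Sylow 2 G) {A : Subgroup G}
    (hAS : A ≤ (S : Subgroup G)) (hA : Cfsg.IsElementaryAbelian 2 A) (hA4 : 4 ≤ Nat.card A)
    (H : Subgroup G) : ¬ Cfsg.IsStronglyEmbedded H := by
  intro hH
  obtain ⟨z, hz⟩ := exists_prime_orderOf_dvd_card' (G := H) 2 (even_iff_two_dvd.1 hH.2.1)
  rw [← Subgroup.orderOf_coe] at hz
  obtain ⟨g, hg⟩ := H39.exists_conj_le_sylow
    (IsPGroup.of_card (n := 1) (by rw [Nat.card_zpowers, hz, pow_one]) : IsPGroup 2 (zpowers (z : G))) S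
  obtain ⟨U, -, hzU, hU⟩ := H70.Balanced.exists_four_mem S.isPGroup' hA hA4 hAS
    (x := g * z * g⁻¹) (by rw [H26.orderOf_conj_eq, hz]) (hg z (mem_zpowers _))
  set V := U.map (MulAut.conj g⁻¹).toMonoidHom with hV
  have hVfour := H70.Balanced.four_map hU g⁻¹
  have hzV : (z : G) ∈ V := ⟨g * z * g⁻¹, hzU, by simp [mul_assoc]⟩
  have hVH : V ≤ H := fun x hx => se_centralizer_le hH hz z.2 (mem_centralizer_singleton_iff.2
    (H36.NilPPrime.elem_comm hVfour.1 hx hzV))
  obtain ⟨s, hs, hsne⟩ : ∃ s ∈ V, s ∉ zpowers (z : G) := by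
    by_contra hc
    push Not at hc
    have := card_le_of_le (show V ≤ zpowers (z : G) from hc)
    rw [Nat.card_zpowers, hz, hVfour.2] at this
    omega
  refine h.false_of_involution hH.1 hz z.2
    (fun d hd hconj R hR hdR => se_two_group_le hH hR ?_ hdR hd) fun w hw hinv => ?_
  · obtain ⟨c, rfl⟩ := isConj_iff.1 hconj
    rw [H26.orderOf_conj_eq, hz]
  obtain ⟨K, hK, -, hzK, hsK, hwK⟩ := h.exists_proper_inverted (mem_zpowers (z : G))
    (show Commute (z : G) s from H36.NilPPrime.elem_comm hVfour.1 hzV hs) hw hinv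
  refine le_of_four hH (h.proper_solvable K hK) ?_ hVH hVfour.1 hVfour.2 hwK
  have hle : zpowers (z : G) ⊔ zpowers s ≤ V := sup_le (zpowers_le.2 hzV) (zpowers_le.2 hs)
  have heq : zpowers (z : G) ⊔ zpowers s = V := by
    refine eq_of_le_of_card_ge hle ?_
    have h1 : zpowers (z : G) < zpowers (z : G) ⊔ zpowers s :=
      lt_of_le_of_ne le_sup_left fun e => hsne (e.ge (mem_sup_right (mem_zpowers s)))
    have h2 : Nat.card (zpowers (z : G)) < Nat.card ↥(zpowers (z : G) ⊔ zpowers s) :=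
      lt_of_le_of_ne (card_le_of_le h1.le) fun e => h1.ne (eq_of_le_of_card_ge h1.le e.ge)
    rw [Nat.card_zpowers, hz] at h2
    have h3 := card_dvd_of_le hle
    rw [hVfour.2] at h3 ⊢
    rcases (Nat.dvd_prime_pow Nat.prime_two (m := 2)).1 h3 with ⟨i, hi, he⟩
    interval_cases i <;> simp_all
  exact heq ▸ sup_le (zpowers_le.2 hzK) (zpowers_le.2 hsK)

/-- Piece B: a normal elementary abelian subgroup of order 8 of a Sylow 2-subgroup forces
characteristic 2 type. -/
theorem Hyp.charTwo_of_normal_eight (h : Hyp G) (S : Sylow 2 G) (A : Subgroup G)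
    (hAS : A ≤ (S : Subgroup G)) (hAn : (S : Subgroup G) ≤ normalizer (A : Set G))
    (hA : Cfsg.IsElementaryAbelian 2 A) (hA8 : 8 ≤ Nat.card A) :
    Cfsg.IsCharacteristicTwoType G := by
  have hO : Cfsg.oddCore G = ⊥ := (h.normal_eq (Cfsg.oddCore G) (Cfsg.pPrimeCore_normal _ _)).resolve_right
    fun e => h.not_solvable (Cfsg.Agent.S0205.result (by
      have h1 := Cores.odd_card_oddCore (G := G)
      rwa [e, card_top] at h1))
  have hsol : ∀ t : G, orderOf t = 2 → Group.IsSolvable (centralizer ({t} : Set G)) :=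
    fun t ht => h.centralizer_solvable fun e => by rw [e, orderOf_one] at ht; omega
  have hA3 : ¬ Cfsg.PRankLE 2 2 A := fun hr => by
    haveI := hA.1
    have hcard := hr ⊤ ⟨⟨fun a b => Subtype.ext (hA.1.1.comm a.1 b.1)⟩⟩
      (fun a _ => Subtype.ext (by simpa using hA.2 a a.2))
    rw [card_top] at hcard
    omega
  refine Cfsg.Agent.S0505.result ?_ hsol fun t ht => ?_
  · rw [even_iff_two_dvd]
    obtain ⟨U, -, hU⟩ := H70.Balanced.exists_four_le hA (by omega)
    exact (show 2 ∣ 4 by norm_num).trans (hU.2.symm.dvd.trans (card_subgroup_dvd_card U))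
  exact H70.Balanced.solvable_centralizers_cores_trivial
    (fun H hH => absurd hH (h.not_stronglyEmbedded S hAS hA (by omega) H)) hO S A hAS
    (normal_subgroupOf_of_le_normalizer hAn) hA.1 hA3 hsol t ht

end Cfsg.Agent.H63.TwoGen
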