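import Cfsg.Agent.H63.TwoGen.PlaneTools
import Cfsg.Agent.PGroups.Basic
import Mathlib

/-!
# Only one prime is moved by a plane

`E` is a plane for the large prime `p`. In the `p'`-cores of the proper overgroups of `E` only
`2`-groups, or only `3`-groups, are moved by `E`.
-/

set_option autoImplicit false
set_option linter.style.haveILetI false
open Cfsg

namespace Cfsg.Agent.H63.TwoGen

open Subgroup
open Cfsg.Agent.H47 (coreOf le_normalizer_coreOf coprime_coreOf coreOf_le)
open scoped commutatorElement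

universe u
variable {G : Type u} [Group G]

/-- What is known about the small primes. -/
structure Small (G : Type u) [Group G] (p : ℕ) : Prop where
  hyp : Hyp G
  len : Len G p
  rank : ∀ r : ℕ, r.Prime → 5 ≤ r → r ≠ p → ∀ R : Subgroup G, IsPGroup r R →
    ∀ x : G, orderOf x = p → x ∈ normalizer (R : Set G) → R ≤ centralizer ({x} : Set G)
  three : ∀ R : Subgroup G, IsPGroup 3 R → ∀ x : G, orderOf x = p → x ∈ normalizer (R : Set G) →
    ¬ R ≤ centralizer ({x} : Set G) →
      ∃ B : Subgroup G, B ≤ R ∧ Cfsg.IsElementaryAbelian 3 B ∧ 27 ≤ Nat.card B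
  four : ∀ Y : Subgroup G, IsPGroup 2 Y → ∀ x : G, orderOf x = p → x ∈ normalizer (Y : Set G) →
    ¬ Y ≤ centralizer ({x} : Set G) →
      ∃ U : Subgroup G, U ≤ Y ∧ Cfsg.IsElementaryAbelian 2 U ∧ Nat.card U = 4
  core : ∀ B : Subgroup G, Cfsg.IsElementaryAbelian 3 B → 27 ≤ Nat.card B → ∀ b ∈ B, b ≠ 1 →
    Cfsg.centralizerPPrimeCore 3 b = ⊥
  two : (∀ Y : Subgroup G, IsPGroup 2 Y → ∀ x : G, orderOf x = p → x ∈ normalizer (Y : Set G) →
      Y ≤ centralizer ({x} : Set G)) ∨ Cfsg.TwoLocalPRankLE 3 2 G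

variable [Finite G] {p : ℕ} [hp : Fact p.Prime]

theorem eq_bot_of_isPGroup_coprime {r : ℕ} [hr : Fact r.Prime] {R : Subgroup G} (hR : IsPGroup r R)
    (hc : (Nat.card R).Coprime r) : R = ⊥ := by
  obtain ⟨n, hn⟩ := IsPGroup.iff_card.1 hR
  rw [← card_eq_one]
  refine Nat.eq_one_of_dvd_coprimes (hc.pow_right n) dvd_rfl ?_
  rw [hn]

theorem le_centralizer_of_forall {E R : Subgroup G}
    (h : ∀ e ∈ E, e ≠ 1 → R ≤ centralizer ({e} : Set G)) : R ≤ centralizer (E : Set G) := by
  intro r hr
  refine mem_centralizer_iff.2 fun e he => ?_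
  by_cases he1 : e = 1
  · rw [he1, one_mul, mul_one]
  · exact (mem_centralizer_singleton_iff.1 (h e he he1 hr)).symm

/-- A moved invariant subgroup is moved in the fixed points of some element of the plane. -/
theorem exists_moved_fixed {r : ℕ} [hr : Fact r.Prime] (hrp : r ≠ p) {E R : Subgroup G}
    (hE : Cfsg.IsElementaryAbelian p E) (hE2 : Nat.card E = p ^ 2) (hR : IsPGroup r R)
    (hER : E ≤ normalizer (R : Set G)) (hmov : ¬ R ≤ centralizer (E : Set G)) :
    ∃ e ∈ E, e ≠ 1 ∧ ¬ R ⊓ centralizer ({e} : Set G) ≤ centralizer (E : Set G) := by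
  by_contra hc
  push Not at hc
  refine hmov (le_of_plane hE hE2 hER ?_ hc)
  obtain ⟨n, hn⟩ := IsPGroup.iff_card.1 hR
  rw [hn]
  exact ((Nat.coprime_primes hr.out hp.out).2 hrp).pow_left n

theorem Small.ne_of_prime (hS : Small G p) {r : ℕ} (h : r < 5) : r ≠ p := fun e => by
  have := hS.len.five
  omega

/-- A subgroup of a 2-local subgroup has no elementary subgroup of order 27. -/
theorem false_of_twoLocal (hL3 : Cfsg.TwoLocalPRankLE 3 2 G) {T B : Subgroup G}
    (hT : IsPGroup 2 T) (hT1 : T ≠ ⊥) (hB : Cfsg.IsElementaryAbelian 3 B) (hB27 : 27 ≤ Nat.card B)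
    (hBT : B ≤ normalizer (T : Set G)) : False := by
  haveI := hB.1
  have := hL3 _ ⟨T, hT, hT1, rfl⟩ (B.subgroupOf (normalizer (T : Set G)))
    ⟨⟨fun a b => Subtype.ext (Subtype.ext
      (H47.commute_of_elementaryAbelian (p := 3) hB a.2 b.2).eq)⟩⟩
    fun a ha => Subtype.ext (by simpa using hB.2 a ha)
  rw [Nat.card_congr (subgroupOfEquivOfLe hBT).toEquiv] at this
  omega

/-- Adjoin a central element to an elementary abelian subgroup. -/
theorem exists_elementary_sup {q : ℕ} [Fact q.Prime] {B : Subgroup G}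
    (hB : Cfsg.IsElementaryAbelian q B) {b : G} (hb : b ^ q = 1) (hcomm : ∀ a ∈ B, Commute a b) :
    Cfsg.IsElementaryAbelian q (B ⊔ zpowers b : Subgroup G) := by
  have hn : zpowers b ≤ normalizer (B : Set G) := zpowers_le.2
    (centralizer_le_normalizer _ (mem_centralizer_iff.2 fun a ha => (hcomm a ha).eq))
  have key : ∀ s ∈ B ⊔ zpowers b, ∃ a ∈ B, ∃ i : ℤ, s = a * b ^ i := by
    intro s hs
    obtain ⟨a, ha, m, ⟨i, rfl⟩, rfl⟩ := (Coprime.mem_sup_iff hn).1 hs
    exact ⟨a, ha, i, rfl⟩
  refine ⟨⟨⟨fun s t => Subtype.ext ?_⟩⟩, fun s hs => ?_⟩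
  · obtain ⟨a, ha, i, hs⟩ := key s s.2
    obtain ⟨c, hc, j, ht⟩ := key t t.2
    show (s : G) * t = t * s
    rw [hs, ht]
    have h1 : Commute a (c * b ^ j) :=
      (H47.commute_of_elementaryAbelian hB ha hc).mul_right ((hcomm a ha).zpow_right j)
    have h2 : Commute (b ^ i) (c * b ^ j) :=
      ((hcomm c hc).zpow_right i).symm.mul_right ((Commute.refl b).zpow_zpow i j)
    exact (h1.mul_left h2).eq
  · obtain ⟨a, ha, i, rfl⟩ := key s hs
    rw [((hcomm a ha).zpow_right i).mul_pow, hB.2 a ha, one_mul, ← zpow_natCast, ← zpow_mul,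
      mul_comm, zpow_mul, zpow_natCast, hb, one_zpow]

/-- The normalizer of a 3-group containing an elementary subgroup of order 27 has trivial core. -/
theorem Small.core_normalizer_eq_bot (hS : Small G p) {D : Subgroup G} (hD : IsPGroup 3 D)
    {B : Subgroup G} (hBD : B ≤ D) (hB : Cfsg.IsElementaryAbelian 3 B) (hB27 : 27 ≤ Nat.card B) :
    coreOf 3 (normalizer (D : Set G)) = ⊥ := by
  set V := coreOf 3 (normalizer (D : Set G))
  have hD1 : (⊤ : Subgroup D) ≠ ⊥ := by
    intro e
    have h1 : Nat.card D = 1 := by rw [← Subgroup.card_top, e, card_bot]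
    have h2 := Nat.le_of_dvd Nat.card_pos (card_dvd_of_le hBD)
    omega
  obtain ⟨⟨b, hbD⟩, -, hbc, hb⟩ := PGroups.exists_mem_center_orderOf_eq (p := 3) hD ⊤ hD1
  rw [Subgroup.orderOf_mk] at hb
  have hb1 : b ≠ 1 := fun e => by rw [e, orderOf_one] at hb; omega
  have hbcomm : ∀ a ∈ D, Commute a b := fun a ha =>
    congrArg Subtype.val (mem_center_iff.1 hbc ⟨a, ha⟩)
  have hcore := hS.core (B ⊔ zpowers b)
    (exists_elementary_sup hB (hb ▸ pow_orderOf_eq_one b) fun a ha => hbcomm a (hBD ha))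
    (hB27.trans (Nat.le_of_dvd Nat.card_pos (card_dvd_of_le le_sup_left)))
    b (mem_sup_right (mem_zpowers b)) hb1
  set X := centralizer ({b} : Set G) with hX
  have hDX : D ≤ X := fun a ha => mem_centralizer_singleton_iff.2 (hbcomm a ha).eq
  have hVC : V ≤ centralizer (D : Set G) := H47.coreOf_le_centralizer hD
  have hVX : V ≤ X := fun v hv =>
    mem_centralizer_singleton_iff.2 (mem_centralizer_iff.1 (hVC hv) b hbD).symm
  haveI := hS.hyp.centralizer_solvable hb1
  set D' := D.subgroupOf X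
  have hmap : ∀ s : X, s ∈ normalizer (D' : Set X) → (s : G) ∈ normalizer (D : Set G) := by
    intro s hs
    refine Coprime.mem_normalizer_of_map_conj (eq_of_le_of_card_ge ?_ (by rw [Coprime.card_map_conj]))
    rintro _ ⟨a, ha, rfl⟩
    have := Coprime.conj_mem hs (show (⟨a, hDX ha⟩ : X) ∈ D' from ha)
    exact this
  have h1 : V.subgroupOf X ≤ coreOf 3 (normalizer (D' : Set X)) := by
    refine H47.le_coreOf (fun s hs => ?_) (fun s hs => ?_) ?_
    · have hn : (s : G) ∈ normalizer (D : Set G) := coreOf_le _ hs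
      refine Coprime.mem_normalizer_of_map_conj (eq_of_le_of_card_ge ?_ (by rw [Coprime.card_map_conj]))
      rintro _ ⟨a, ha, rfl⟩
      show (s : G) * a * (s : G)⁻¹ ∈ D
      exact Coprime.conj_mem hn ha
    · refine Coprime.mem_normalizer_of_map_conj
        (eq_of_le_of_card_ge ?_ (by rw [Coprime.card_map_conj]))
      rintro _ ⟨a, ha, rfl⟩
      show (s : G) * a * (s : G)⁻¹ ∈ V
      exact Coprime.conj_mem (le_normalizer_coreOf _ (hmap s hs)) ha
    · rw [Nat.card_congr (subgroupOfEquivOfLe hVX).toEquiv]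
      exact coprime_coreOf _
  have h2 : V.subgroupOf X ≤ Cfsg.pCore 3 X :=
    (h1.trans (H47.coreOf_le_centralizer_pCore hD.comap_subtype)).trans
      (Cores.centralizer_pCore_le Cores.isPSolvable_of_isSolvable
        ((Subgroup.map_eq_bot_iff_of_injective _ X.subtype_injective).mp hcore))
  have h3 : V.subgroupOf X = ⊥ :=
    eq_bot_of_isPGroup_coprime (r := 3) ((Cores.pCore_isPGroup).to_le h2)
      (by rw [Nat.card_congr (subgroupOfEquivOfLe hVX).toEquiv]; exact coprime_coreOf _)
  rwa [subgroupOf_eq_bot, disjoint_iff, inf_eq_left.2 hVX] at h3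

/-- Two and three are not both moved in one core. -/
theorem Small.not_both (hS : Small G p) (hL3 : Cfsg.TwoLocalPRankLE 3 2 G) {E : Subgroup G}
    (hE : Cfsg.IsElementaryAbelian p E) (hE2 : Nat.card E = p ^ 2) {K : Subgroup G} (hK : K ≠ ⊤)
    (hEK : E ≤ K) {R Y : Subgroup G} (hRO : R ≤ coreOf p K) (hR : IsPGroup 3 R)
    (hER : E ≤ normalizer (R : Set G)) (hRm : ¬ R ≤ centralizer (E : Set G))
    (hYO : Y ≤ coreOf p K) (hY : IsPGroup 2 Y) (hEY : E ≤ normalizer (Y : Set G))
    (hYm : ¬ Y ≤ centralizer (E : Set G)) : False := by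
  set O := coreOf p K
  have hEO : E ≤ normalizer (O : Set G) := hEK.trans (le_normalizer_coreOf K)
  haveI hOs : Group.IsSolvable O := Coprime.isSolvable_of_le (coreOf_le K) (hS.hyp.proper_solvable K hK)
  have hOcop : (Nat.card O).Coprime p := coprime_coreOf K
  have hord : ∀ e ∈ E, e ≠ 1 → orderOf e = p := fun e he he1 => orderOf_of_mem_plane hE he he1
  -- an elementary subgroup of order 27 in a moved 3-group
  have hbig : ∀ R : Subgroup G, IsPGroup 3 R → E ≤ normalizer (R : Set G) →
      ¬ R ≤ centralizer (E : Set G) →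
      ∃ B : Subgroup G, B ≤ R ∧ Cfsg.IsElementaryAbelian 3 B ∧ 27 ≤ Nat.card B := by
    intro R hR hER hm
    obtain ⟨e, he, he1, hne⟩ : ∃ e ∈ E, e ≠ 1 ∧ ¬ R ≤ centralizer ({e} : Set G) := by
      by_contra hc
      push Not at hc
      exact hm (le_centralizer_of_forall hc)
    exact hS.three R hR e (hord e he he1) (hER he) hne
  obtain ⟨B, hBR, hB, hB27⟩ := hbig R hR hER hRm
  have hinv : ∀ (r : ℕ), E ≤ normalizer (((Cfsg.pCore r O).map O.subtype : Subgroup G) : Set G) :=
    fun r => Components.le_normalizer_map_characteristic _ hEO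
  -- `O_2(O) = 1`
  have hO2 : (Cfsg.pCore 2 O).map O.subtype = ⊥ := by
    by_contra hne
    exact false_of_twoLocal hL3 (Cores.pCore_isPGroup.map _) hne hB hB27
      ((hBR.trans hRO).trans (Components.le_normalizer_map_characteristic _ le_normalizer))
  set D := (Cfsg.pCore 3 O).map O.subtype with hD
  have hDp : IsPGroup 3 D := Cores.pCore_isPGroup.map _
  have hED : E ≤ normalizer (D : Set G) := hinv 3
  have hOD : O ≤ normalizer (D : Set G) := Components.le_normalizer_map_characteristic _ le_normalizer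
  -- `O_3(O)` is moved
  have hDm : ¬ D ≤ centralizer (E : Set G) := by
    intro hDc
    set F := (Cfsg.fittingSubgroup O).map O.subtype with hF
    have hFE : F ≤ centralizer (E : Set G) := by
      rw [hF, map_le_iff_le_comap, Cores.iSup_pCore_eq_fittingSubgroup]
      refine iSup_le fun r => ?_
      rw [← map_le_iff_le_comap]
      haveI : Fact (r : ℕ).Prime := ⟨r.2⟩
      have hrp : IsPGroup (r : ℕ) ((Cfsg.pCore (r : ℕ) O).map O.subtype : Subgroup G) :=
        Cores.pCore_isPGroup.map _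
      by_cases hr2 : (r : ℕ) = 2
      · rw [hr2, hO2]; exact bot_le
      by_cases hr3 : (r : ℕ) = 3
      · rw [hr3]; exact hDc
      by_cases hrp' : (r : ℕ) = p
      · rw [eq_bot_of_isPGroup_coprime hrp (Nat.Coprime.coprime_dvd_left
          (card_dvd_of_le (map_subtype_le _)) (hrp'.symm ▸ hOcop))]
        exact bot_le
      have hr5 : 5 ≤ (r : ℕ) := by
        have h2 := r.2.two_le
        by_contra h5
        have h4 : (r : ℕ) = 4 := by omega
        exact absurd (h4 ▸ r.2) (by norm_num)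
      exact le_centralizer_of_forall fun e he he1 =>
        hS.rank r r.2 hr5 hrp' _ hrp e (hord e he he1) (hinv r he)
    have hFO : F ≤ O := map_subtype_le _
    have hcop : (Nat.card E).Coprime (Nat.card O) := by
      rw [hE2]; exact hOcop.symm.pow_left 2
    have hOF : O ≤ normalizer (F : Set G) :=
      Components.le_normalizer_map_characteristic _ le_normalizer
    have htop : ∀ H : Subgroup G, H ≤ normalizer ((⊥ : Subgroup G) : Set G) := fun H => by
      rw [show normalizer ((⊥ : Subgroup G) : Set G) = ⊤ from normalizer_eq_top _]; exact le_top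
    have h3 : ⁅⁅O, E⁆, F⁆ ≤ (⊥ : Subgroup G) := by
      refine Coprime.commutator_rotate_le (htop O) (htop E) (htop F) ?_ ?_
      · rw [commutator_comm E F, commutator_eq_bot_iff_le_centralizer.2 hFE, commutator_bot_left]
      · refine (commutator_mono (show ⁅F, O⁆ ≤ F from ?_) le_rfl).trans
          (commutator_eq_bot_iff_le_centralizer.2 hFE).le
        exact le_normalizer_iff_commutator_le_left.1 hOF
    have h4 : ⁅O, E⁆ ≤ F := by
      intro w hw
      have hwO : w ∈ O := Coprime.commutator_le_left_of_normalizer hEO hw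
      refine ⟨⟨w, hwO⟩, Cores.centralizer_fittingSubgroup_le (mem_centralizer_iff.2 fun y hy => ?_), rfl⟩
      exact Subtype.ext (mem_centralizer_iff.1
        (commutator_eq_bot_iff_le_centralizer.1 (le_bot_iff.1 h3) hw) y (mem_map_of_mem _ hy))
    refine hRm (hRO.trans ?_)
    refine commutator_eq_bot_iff_le_centralizer.1 (le_bot_iff.1 ?_)
    rw [← Coprime.commutator_commutator_eq hEO hcop (Or.inr hOs)]
    exact (commutator_mono h4 le_rfl).trans (commutator_eq_bot_iff_le_centralizer.2 hFE).le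
  obtain ⟨B₃, hB₃D, hB₃, hB₃27⟩ := hbig D hDp hED hDm
  -- a four-group in the fixed points of some `f`
  haveI := Fact.mk Nat.prime_two
  obtain ⟨f, hf, hf1, hfm⟩ :=
    exists_moved_fixed (hS.ne_of_prime (by norm_num)) hE hE2 hY hEY hYm
  obtain ⟨e, he, he1, hne⟩ : ∃ e ∈ E, e ≠ 1 ∧
      ¬ Y ⊓ centralizer ({f} : Set G) ≤ centralizer ({e} : Set G) := by
    by_contra hc
    push Not at hc
    exact hfm (le_centralizer_of_forall hc)
  obtain ⟨U, hUY, hU, hU4⟩ := hS.four _ (hY.to_le inf_le_left) e (hord e he he1)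
    (le_normalizer_inter hEY ((le_centralizer_singleton hE hf).trans le_normalizer) he) hne
  have hUO : U ≤ O := hUY.trans (inf_le_left.trans hYO)
  -- a 3-group normalized by `U` and moved by `f`
  obtain ⟨R', hR', hUR', hfR', hmov⟩ : ∃ R' : Subgroup G, IsPGroup 3 R' ∧
      U ≤ normalizer (R' : Set G) ∧ f ∈ normalizer (R' : Set G) ∧
      ¬ R' ≤ centralizer ({f} : Set G) := by
    by_cases hfD : D ≤ centralizer ({f} : Set G)
    · set L := normalizer (D : Set G) with hL
      have hcoreL : Cfsg.pPrimeCore 3 L = ⊥ :=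
        (Subgroup.map_eq_bot_iff_of_injective _ L.subtype_injective).mp
          (hS.core_normalizer_eq_bot hDp hB₃D hB₃ hB₃27)
      haveI : Group.IsSolvable L := by
        refine hS.hyp.proper_solvable _ (hS.hyp.normalizer_ne_top ?_ (hS.hyp.ne_top_of_isPGroup hDp))
        intro e'
        exact hDm (e' ▸ bot_le)
      refine ⟨(Cfsg.pCore 3 L).map L.subtype, Cores.pCore_isPGroup.map _,
        Components.le_normalizer_map_characteristic _ ((hUO.trans hOD).trans le_normalizer),
        Components.le_normalizer_map_characteristic (L := L) (Cfsg.pCore 3 L) le_normalizer (hED hf),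
        fun hc => ?_⟩
      have h1 : (⟨f, hED hf⟩ : L) ∈ Cfsg.pCore 3 L :=
        Cores.centralizer_pCore_le Cores.isPSolvable_of_isSolvable hcoreL
          (mem_centralizer_iff.2 fun y hy => Subtype.ext
            (mem_centralizer_singleton_iff.1 (hc (mem_map_of_mem _ hy))))
      obtain ⟨n, hn⟩ := (Cores.pCore_isPGroup (p := 3) (G := L)) ⟨_, h1⟩
      refine hf1 (eq_one_of_coprime_pow (p := 3) (n := n) ?_
        (by simpa using congrArg (fun y : Cfsg.pCore 3 L => ((y : L) : G)) hn))
      rw [hord f hf hf1]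
      exact (Nat.coprime_primes hp.out Nat.prime_three).2 (hS.ne_of_prime (by norm_num)).symm
    · exact ⟨D, hDp, hUO.trans hOD, hED hf, hfD⟩
  refine hmov (le_of_plane (p := 2) hU (hU4.trans (by norm_num)) hUR' ?_ fun s hs hs1 => ?_)
  · obtain ⟨n, hn⟩ := IsPGroup.iff_card.1 hR'
    rw [hn]
    exact (Nat.Coprime.pow_left n (by norm_num))
  by_contra hsm
  have hfs : Commute f s := (mem_centralizer_singleton_iff.1 (hUY hs).2 : Commute s f).symm
  have hfn : f ∈ normalizer ((R' ⊓ centralizer ({s} : Set G) : Subgroup G) : Set G) := by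
    have := le_normalizer_inter (S := zpowers f) (zpowers_le.2 hfR')
      ((zpowers_le.2 (mem_centralizer_singleton_iff.2 hfs.eq)).trans
        (le_normalizer (H := centralizer ({s} : Set G))))
    exact this (mem_zpowers f)
  obtain ⟨B', hB'le, hB', hB'27⟩ :=
    hS.three _ (hR'.to_le inf_le_left) f (hord f hf hf1) hfn hsm
  refine false_of_twoLocal hL3 (T := zpowers s) ?_ (by simpa using hs1) hB' hB'27 ?_
  · exact IsPGroup.of_card (n := 1) (by
      rw [Nat.card_zpowers, pow_one]; exact orderOf_eq_prime (hU.2 s hs) hs1)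
  · refine hB'le.trans (inf_le_right.trans ?_)
    rw [show centralizer ({s} : Set G) = centralizer (zpowers s : Set G) by
      rw [zpowers_eq_closure, centralizer_closure]]
    exact centralizer_le_normalizer _

/-- Only one prime is moved by the plane. -/
theorem Small.moved_prime (hS : Small G p) {E : Subgroup G} (hE : Cfsg.IsElementaryAbelian p E)
    (hE2 : Nat.card E = p ^ 2) :
    ∃ q : ℕ, q.Prime ∧ q ≠ p ∧ ∀ K : Subgroup G, K ≠ ⊤ → E ≤ K →
      IsPGroup q (⁅coreOf p K, E⁆ : Subgroup G) := by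
  -- the invariant `r`-subgroups for `r` outside `{2, 3}` are centralized
  have hother : ∀ K : Subgroup G, ∀ r : ℕ, r.Prime → r ≠ 2 → r ≠ 3 → ∀ R : Subgroup G,
      R ≤ coreOf p K → IsPGroup r R → E ≤ normalizer (R : Set G) →
      R ≤ centralizer (E : Set G) := by
    intro K r hr h2 h3 R hRO hR hER
    haveI := Fact.mk hr
    by_cases hrp : r = p
    · rw [eq_bot_of_isPGroup_coprime hR (Nat.Coprime.coprime_dvd_left (card_dvd_of_le hRO)
        (hrp.symm ▸ coprime_coreOf K))]
      exact bot_le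
    have hr5 : 5 ≤ r := by
      have := hr.two_le
      by_contra h5
      have h4 : r = 4 := by omega
      exact absurd (h4 ▸ hr) (by norm_num)
    exact le_centralizer_of_forall fun e he he1 =>
      hS.rank r hr hr5 hrp R hR e (orderOf_of_mem_plane hE he he1) (hER he)
  -- it is enough that one of `2`, `3` is never moved
  have main : ∀ q q' : ℕ, q.Prime → q ≠ p → (q = 3 ∧ q' = 2 ∨ q = 2 ∧ q' = 3) →
      (∀ K : Subgroup G, K ≠ ⊤ → E ≤ K → ∀ R : Subgroup G, R ≤ coreOf p K → IsPGroup q' R →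
        E ≤ normalizer (R : Set G) → R ≤ centralizer (E : Set G)) →
      ∃ q : ℕ, q.Prime ∧ q ≠ p ∧ ∀ K : Subgroup G, K ≠ ⊤ → E ≤ K →
        IsPGroup q (⁅coreOf p K, E⁆ : Subgroup G) := by
    intro q q' hq hqp hpair hnm
    haveI := Fact.mk hq
    refine ⟨q, hq, hqp, fun K hK hEK => isPGroup_commutator (hEK.trans (le_normalizer_coreOf K))
      ?_ (Coprime.isSolvable_of_le (coreOf_le K) (hS.hyp.proper_solvable K hK)) ?_⟩
    · rw [hE2]
      exact (coprime_coreOf K).symm.pow_left 2
    intro r hr hrq R hRO hR hER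
    by_cases hr' : r = q'
    · exact hnm K hK hEK R hRO (hr' ▸ hR) hER
    · exact hother K r hr (by omega) (by omega) R hRO hR hER
  haveI := Fact.mk Nat.prime_two
  haveI := Fact.mk Nat.prime_three
  have h2p := hS.ne_of_prime (r := 2) (by norm_num)
  have h3p := hS.ne_of_prime (r := 3) (by norm_num)
  rcases hS.two with hc2 | hL3
  · exact main 3 2 Nat.prime_three h3p (Or.inl ⟨rfl, rfl⟩) fun K _ _ R _ hR hER =>
      le_centralizer_of_forall fun e he he1 => hc2 R hR e (orderOf_of_mem_plane hE he he1) (hER he)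
  by_cases hY : ∃ K : Subgroup G, K ≠ ⊤ ∧ E ≤ K ∧ ∃ Y : Subgroup G, Y ≤ coreOf p K ∧ IsPGroup 2 Y ∧
      E ≤ normalizer (Y : Set G) ∧ ¬ Y ≤ centralizer (E : Set G)
  · obtain ⟨_, -, -, Y, -, hYp, hEY, hYm⟩ := hY
    refine main 2 3 Nat.prime_two h2p (Or.inr ⟨rfl, rfl⟩) fun K₂ hK₂ hEK₂ R _ hR hER => ?_
    by_contra hRm
    obtain ⟨e, he, he1, hYe⟩ := exists_moved_fixed h2p hE hE2 hYp hEY hYm
    obtain ⟨f, hf, hf1, hRf⟩ := exists_moved_fixed h3p hE hE2 hR hER hRm
    obtain ⟨d, ⟨hdY, hde⟩, hdm⟩ := SetLike.not_le_iff_exists.1 hYe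
    obtain ⟨w, ⟨hwR, hwf⟩, hwm⟩ := SetLike.not_le_iff_exists.1 hRf
    have hoe := orderOf_of_mem_plane hE he he1
    have hof := orderOf_of_mem_plane hE hf hf1
    obtain ⟨K, hK, hEK, hdK, hwK⟩ : ∃ K : Subgroup G, K ≠ ⊤ ∧ E ≤ K ∧ d ∈ K ∧ w ∈ K := by
      by_cases hline : f ∈ zpowers e
      · refine ⟨_, hS.hyp.centralizer_ne_top he1, le_centralizer_singleton hE he, hde, ?_⟩
        obtain ⟨i, rfl⟩ := mem_zpowers_comm hoe hline hf1
        exact mem_centralizer_singleton_iff.2
          ((show Commute w f from mem_centralizer_singleton_iff.1 hwf).zpow_right i).eq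
      · have hc1 : (orderOf e).Coprime (orderOf d) := by
          rw [hoe]
          exact (coprime_orderOf (H := Y) (p := p) (by
            obtain ⟨n, hn⟩ := IsPGroup.iff_card.1 hYp
            rw [hn]
            exact ((Nat.coprime_primes Nat.prime_two hp.out).2 h2p).pow_left n) hdY).symm
        have hc2 : (orderOf f).Coprime (orderOf w) := by
          rw [hof]
          exact (coprime_orderOf (H := R) (p := p) (by
            obtain ⟨n, hn⟩ := IsPGroup.iff_card.1 hR
            rw [hn]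
            exact ((Nat.coprime_primes Nat.prime_three hp.out).2 h3p).pow_left n) hwR).symm
        obtain ⟨K, hK, heK, hdK, hfK, hwK⟩ := hS.hyp.exists_proper_four
          (show Commute d e from mem_centralizer_singleton_iff.1 hde).symm hc1
          (show Commute w f from mem_centralizer_singleton_iff.1 hwf).symm hc2
        exact ⟨K, hK, plane_le hE hE2 he heK hf hfK he1 hline, hdK, hwK⟩
    have hEn : E ≤ normalizer (K : Set G) := hEK.trans le_normalizer
    have hsub : ∀ {r : ℕ} [Fact r.Prime], r ≠ p → ∀ T : Subgroup G, IsPGroup r T →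
        E ≤ normalizer (T : Set G) → T ⊓ K ≤ coreOf p K := by
      intro r hr hrp T hT hET
      refine hS.len.le_core E hE hE2 K hK hEK _ inf_le_right ?_ (le_normalizer_inter hET hEn)
      obtain ⟨n, hn⟩ := IsPGroup.iff_card.1 (hT.to_le (inf_le_left : T ⊓ K ≤ T))
      rw [hn]
      exact ((Nat.coprime_primes hr.out hp.out).2 hrp).pow_left n
    exact hS.not_both hL3 hE hE2 hK hEK (hsub h3p R hR hER) (hR.to_le inf_le_left)
      (le_normalizer_inter hER hEn) (fun hc => hwm (hc ⟨hwR, hwK⟩))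
      (hsub h2p Y hYp hEY) (hYp.to_le inf_le_left) (le_normalizer_inter hEY hEn)
      (fun hc => hdm (hc ⟨hdY, hdK⟩))
  · push Not at hY
    exact main 3 2 Nat.prime_three h3p (Or.inl ⟨rfl, rfl⟩) fun K hK hEK R hRO hR hER =>
      hY K hK hEK R hRO hR hER

end Cfsg.Agent.H63.TwoGen
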