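import Cfsg.Agent.H63.TwoGen.Fusion
import Cfsg.Agent.H63.TwoGen.MovedPrimes
import Cfsg.Agent.H63.TwoGen.CharTwo
import Cfsg.Agent.H29.KM.Main
import Mathlib

/-!
# Flavell's theorem: assembly
-/

set_option autoImplicit false
set_option linter.style.haveILetI false
open Cfsg

namespace Cfsg.Agent.H63.TwoGen

open Subgroup
open Cfsg.Agent.H47 (coreOf)

universe u
variable {G : Type u} [Group G] [Finite G]

theorem exists_max_prime (h : Hyp G) :
    ∃ p : ℕ, p.Prime ∧ 5 ≤ p ∧ p ∣ Nat.card G ∧ ∀ r : ℕ, r.Prime → r ∣ Nat.card G → r ≤ p := by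
  obtain ⟨p0, hp0, hp5, hpd⟩ := h.exists_five_le
  have hne : (Nat.card G).primeFactors.Nonempty :=
    ⟨p0, Nat.mem_primeFactors.2 ⟨hp0, hpd, Nat.card_pos.ne'⟩⟩
  set p := (Nat.card G).primeFactors.max' hne with hp
  have hmem := Finset.max'_mem _ hne
  have hmax : ∀ r : ℕ, r.Prime → r ∣ Nat.card G → r ≤ p := fun r hr hd =>
    Finset.le_max' _ r (Nat.mem_primeFactors.2 ⟨hr, hd, Nat.card_pos.ne'⟩)
  exact ⟨p, (Nat.mem_primeFactors.1 hmem).1, hp5.trans (hmax p0 hp0 hpd),
    (Nat.mem_primeFactors.1 hmem).2.1, hmax⟩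

omit [Finite G] in
theorem pRankLE_subgroup {r k : ℕ} (h : Cfsg.PRankLE r k G) (H : Subgroup G) :
    Cfsg.PRankLE r k H := by
  intro A hA hAe
  haveI := hA
  have := h (A.map H.subtype) inferInstance (by
    rintro _ ⟨a, ha, rfl⟩
    rw [← map_pow, hAe a ha, map_one])
  rwa [card_map_of_injective H.subtype_injective] at this

/-- The contradiction from the statements of the pieces. -/
theorem false_of_pieces (h : Hyp G)
    (hcore : ∀ (p : ℕ) [Fact p.Prime], p ≠ 2 → ∀ B : Subgroup G, Cfsg.IsElementaryAbelian p B →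
      p ^ 3 ≤ Nat.card B → ∀ b ∈ B, b ≠ 1 → Cfsg.centralizerPPrimeCore p b = ⊥)
    (hrank : ∀ (p : ℕ) [Fact p.Prime], 5 ≤ p → Cfsg.PRankLE p 2 G)
    (hD : ∀ S : Sylow 2 G, (∀ A : Subgroup G, A ≤ (S : Subgroup G) →
        (S : Subgroup G) ≤ normalizer (A : Set G) → Cfsg.IsElementaryAbelian 2 A → Nat.card A ≤ 4) →
      ∀ (x : G) (p : ℕ), p.Prime → 5 ≤ p → orderOf x = p → ∀ Y : Subgroup G, IsPGroup 2 Y →
        x ∈ normalizer (Y : Set G) → Y ≤ centralizer ({x} : Set G))
    (hlen : ∀ (p : ℕ) [Fact p.Prime], 5 ≤ p → Cfsg.PRankLE p 2 G → Len G p)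
    (hsmall : ∀ (p q : ℕ) [Fact p.Prime] [Fact q.Prime], q ≠ p → q ≠ 2 → q < p → 5 ≤ p →
      ∀ Q : Subgroup G, IsPGroup q Q → Cfsg.PRankLE q 2 Q → ∀ x : G, orderOf x = p →
        x ∈ normalizer (Q : Set G) → Q ≤ centralizer ({x} : Set G))
    (hfour : ∀ (p : ℕ) [Fact p.Prime], 5 ≤ p → ∀ Y : Subgroup G, IsPGroup 2 Y → ∀ x : G,
      orderOf x = p → x ∈ normalizer (Y : Set G) → ¬ Y ≤ centralizer ({x} : Set G) →
        ∃ U : Subgroup G, U ≤ Y ∧ Cfsg.IsElementaryAbelian 2 U ∧ Nat.card U = 4) : False := by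
  obtain ⟨p, hp, hp5, hpd, hmax⟩ := exists_max_prime h
  haveI := Fact.mk hp
  haveI := Fact.mk Nat.prime_three
  have hL := hlen p hp5 (hrank p hp5)
  have hS : Small G p := by
    refine ⟨h, hL, ?_, ?_, hfour p hp5, fun B hB hB27 => hcore 3 (by norm_num) B hB (by simpa using hB27), ?_⟩
    · intro r hr hr5 hrp R hR x hx hxR
      haveI := Fact.mk hr
      by_cases hd : r ∣ Nat.card G
      · exact hsmall p r hrp (by omega) (lt_of_le_of_ne (hmax r hr hd) hrp) hp5 R hR
          (pRankLE_subgroup (hrank r hr5) R) x hx hxR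
      · rw [eq_bot_of_isPGroup_coprime hR
          (Nat.Coprime.coprime_dvd_left R.card_subgroup_dvd_card
            (hr.coprime_iff_not_dvd.2 hd).symm)]
        exact bot_le
    · intro R hR x hx hxR hne
      have hr : ¬ Cfsg.PRankLE 3 2 R := fun hr =>
        hne (hsmall p 3 (by omega) (by norm_num) (by omega) hp5 R hR hr x hx hxR)
      simp only [Cfsg.PRankLE, not_forall, not_le] at hr
      obtain ⟨A, hA, hAe, hAc⟩ := hr
      haveI := hA
      refine ⟨A.map R.subtype, map_subtype_le A, ⟨inferInstance, ?_⟩, ?_⟩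
      · rintro _ ⟨a, ha, rfl⟩
        rw [← map_pow, hAe a ha, map_one]
      · rw [card_map_of_injective R.subtype_injective]
        obtain ⟨n, hn⟩ := IsPGroup.iff_card.1 (hR.to_subgroup A)
        rw [hn] at hAc ⊢
        exact (Nat.pow_lt_pow_iff_right (by norm_num)).1 hAc |> fun h3 =>
          le_trans (by norm_num) (Nat.pow_le_pow_right (by norm_num : 0 < 3) h3)
    · set S : Sylow 2 G := Classical.arbitrary _
      by_cases hno : ∀ A : Subgroup G, A ≤ (S : Subgroup G) →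
          (S : Subgroup G) ≤ normalizer (A : Set G) → Cfsg.IsElementaryAbelian 2 A → Nat.card A ≤ 4
      · exact Or.inl fun Y hY x hx hxY => hD S hno x p hp hp5 hx Y hY hxY
      · right
        push Not at hno
        obtain ⟨A, hAS, hAn, hA, hA4⟩ := hno
        obtain ⟨n, hn⟩ := IsPGroup.iff_card.1 (S.isPGroup'.to_le hAS)
        have h2 : Cfsg.IsCharacteristicTwoType G := by
          refine h.charTwo_of_normal_eight S A hAS hAn hA ?_
          rw [hn] at hA4 ⊢
          have : 2 < n := (Nat.pow_lt_pow_iff_right (by norm_num : 1 < 2)).1 (by simpa using hA4)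
          exact le_trans (by norm_num) (Nat.pow_le_pow_right (by norm_num : 0 < 2) this)
        exact H29.KM.twoLocalPRankLE_two_of_cores (by norm_num) h2
          (fun _ ha => h.centralizer_solvable ha) (hcore 3 (by norm_num))
  exact false_of_len h hL hpd fun E hE hE2 => hS.moved_prime hE hE2

end Cfsg.Agent.H63.TwoGen
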