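import Cfsg.Agent.S1950
import Cfsg.Agent.Cores.PSolvable
import Cfsg.Agent.S0144
import Mathlib

/-!
# Flavell's theorem: the setting

`Hyp G`: a non-solvable simple group whose proper subgroups are solvable and in which no two
elements generate the group. The elementary consequences used everywhere are here.
-/

set_option autoImplicit false
open Cfsg

namespace Cfsg.Agent.H63.TwoGen

open Subgroup

universe u

/-- The minimal counterexample to Flavell's theorem. -/
structure Hyp (G : Type u) [Group G] : Prop where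
  simple : IsSimpleGroup G
  not_solvable : ¬ Group.IsSolvable G
  proper_solvable : ∀ H : Subgroup G, H ≠ ⊤ → Group.IsSolvable H
  pair : ∀ a b : G, Subgroup.closure ({a, b} : Set G) ≠ ⊤

variable {G : Type u} [Group G]

theorem Hyp.not_comm (h : Hyp G) : ∃ v w : G, v * w ≠ w * v := by
  by_contra hc
  push Not at hc
  exact h.not_solvable (Group.isSolvable_of_comm hc)

theorem Hyp.nontrivial (h : Hyp G) : Nontrivial G := h.simple.toNontrivial

theorem Hyp.normal_eq (h : Hyp G) (N : Subgroup G) (hN : N.Normal) : N = ⊥ ∨ N = ⊤ :=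
  h.simple.eq_bot_or_eq_top_of_normal N hN

theorem Hyp.normalizer_ne_top (h : Hyp G) {H : Subgroup G} (h1 : H ≠ ⊥) (h2 : H ≠ ⊤) :
    normalizer (H : Set G) ≠ ⊤ := fun e =>
  (h.normal_eq H (normalizer_eq_top_iff.1 e)).elim h1 h2

theorem Hyp.ne_top_of_solvable (h : Hyp G) {H : Subgroup G} (hH : Group.IsSolvable H) : H ≠ ⊤ := by
  rintro rfl
  haveI := hH
  exact h.not_solvable
    (Group.isSolvable_of_surjective (f := (Subgroup.topEquiv : (⊤ : Subgroup G) ≃* G).toMonoidHom)
      Subgroup.topEquiv.surjective)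

theorem Hyp.ne_top_of_isPGroup (h : Hyp G) [Finite G] {p : ℕ} [Fact p.Prime] {H : Subgroup G}
    (hH : IsPGroup p H) : H ≠ ⊤ := by
  haveI := hH.isNilpotent
  exact h.ne_top_of_solvable inferInstance

theorem Hyp.centralizer_ne_top (h : Hyp G) {x : G} (hx : x ≠ 1) :
    centralizer ({x} : Set G) ≠ ⊤ := by
  intro e
  have hxc : x ∈ center G := Subgroup.mem_center_iff.2 fun g =>
    mem_centralizer_singleton_iff.1 (e ▸ mem_top g)
  rcases h.normal_eq (center G) inferInstance with h1 | h1
  · rw [h1] at hxc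
    exact hx (mem_bot.1 hxc)
  · obtain ⟨v, w, hvw⟩ := h.not_comm
    exact hvw (Subgroup.mem_center_iff.1 (h1 ▸ mem_top w : w ∈ center G) v)

theorem Hyp.centralizer_solvable (h : Hyp G) {x : G} (hx : x ≠ 1) :
    Group.IsSolvable (centralizer ({x} : Set G)) :=
  h.proper_solvable _ (h.centralizer_ne_top hx)

theorem Hyp.pair_solvable (h : Hyp G) (a b : G) :
    Group.IsSolvable (closure ({a, b} : Set G)) :=
  h.proper_solvable _ (h.pair a b)

theorem mem_pair_left (a b : G) : a ∈ closure ({a, b} : Set G) :=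
  Subgroup.subset_closure (Set.mem_insert a {b})

theorem mem_pair_right (a b : G) : b ∈ closure ({a, b} : Set G) :=
  Subgroup.subset_closure (Set.mem_insert_of_mem a rfl)

/-- No element lies in a unique maximal subgroup. -/
theorem Hyp.false_of_unique (h : Hyp G) {M : Subgroup G} (hM : M ≠ ⊤) {x : G}
    (hu : ∀ H : Subgroup G, H ≠ ⊤ → x ∈ H → H ≤ M) : False := by
  refine hM (eq_top_iff.2 fun g _ => hu _ (h.pair x g) (mem_pair_left _ _) ?_)
  exact mem_pair_right _ _

/-- An element commuting with another of coprime order is a power of the product. -/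
theorem mem_zpowers_mul {e d : G} (hed : Commute e d) (hcop : (orderOf e).Coprime (orderOf d)) :
    e ∈ zpowers (e * d) := by
  have h1 : (e * d) ^ orderOf d = e ^ orderOf d := by
    rw [hed.mul_pow, pow_orderOf_eq_one, mul_one]
  obtain ⟨k, hk⟩ := exists_pow_eq_self_of_coprime hcop.symm
  have := pow_mem (mem_zpowers (e * d)) (orderOf d * k)
  rwa [pow_mul, h1, hk] at this

theorem mem_zpowers_mul' {e d : G} (hed : Commute e d) (hcop : (orderOf e).Coprime (orderOf d)) :
    d ∈ zpowers (e * d) := by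
  rw [hed.eq]
  exact mem_zpowers_mul hed.symm hcop.symm

/-- Two coprime commuting pairs lie in a proper subgroup. -/
theorem Hyp.exists_proper_four (h : Hyp G) {e d f g : G} (hed : Commute e d)
    (h1 : (orderOf e).Coprime (orderOf d)) (hfg : Commute f g)
    (h2 : (orderOf f).Coprime (orderOf g)) :
    ∃ K : Subgroup G, K ≠ ⊤ ∧ e ∈ K ∧ d ∈ K ∧ f ∈ K ∧ g ∈ K := by
  refine ⟨closure {e * d, f * g}, h.pair _ _, ?_, ?_, ?_, ?_⟩
  · exact zpowers_le.2 (mem_pair_left _ _) (mem_zpowers_mul hed h1)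
  · exact zpowers_le.2 (mem_pair_left _ _) (mem_zpowers_mul' hed h1)
  · exact zpowers_le.2 (mem_pair_right _ _) (mem_zpowers_mul hfg h2)
  · exact zpowers_le.2 (mem_pair_right _ _) (mem_zpowers_mul' hfg h2)

/-- If `x` is a power of `b` and commutes with `c`, then `b` and `c * v` generate a proper
subgroup containing the conjugate of `x` by `v⁻¹`. -/
theorem Hyp.exists_proper_conj (h : Hyp G) {b x c : G} (v : G) (hxb : x ∈ zpowers b)
    (hxc : Commute x c) :
    ∃ K : Subgroup G, K ≠ ⊤ ∧ b ∈ K ∧ x ∈ K ∧ c * v ∈ K ∧ v⁻¹ * x * v ∈ K := by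
  have hxK : x ∈ closure ({b, c * v} : Set G) :=
    zpowers_le.2 (mem_pair_left _ _) hxb
  refine ⟨closure {b, c * v}, h.pair _ _, mem_pair_left _ _, hxK,
    mem_pair_right _ _, ?_⟩
  have : v⁻¹ * x * v = (c * v)⁻¹ * x * (c * v) := by
    have e : c⁻¹ * x * c = x := by rw [mul_assoc, hxc.eq, inv_mul_cancel_left]
    calc v⁻¹ * x * v = v⁻¹ * (c⁻¹ * x * c) * v := by rw [e]
      _ = (c * v)⁻¹ * x * (c * v) := by group
  rw [this]
  exact mul_mem (mul_mem (inv_mem (mem_pair_right _ _)) hxK) (mem_pair_right _ _)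

/-- The involution form: if `c` inverts `w` of odd order, `b` has `c` as a power and `g`
commutes with `c`, some proper subgroup contains `b`, `g` and `w`. -/
theorem Hyp.exists_proper_inverted (h : Hyp G) [Finite G] {b c g w : G} (hcb : c ∈ zpowers b)
    (hcg : Commute c g) (hw : Odd (orderOf w)) (hinv : c * w * c⁻¹ = w⁻¹) :
    ∃ K : Subgroup G, K ≠ ⊤ ∧ b ∈ K ∧ c ∈ K ∧ g ∈ K ∧ w ∈ K := by
  obtain ⟨K, hK, hb, hc, hgw, hcw⟩ := h.exists_proper_conj w hcb hcg
  have h2 : w ^ 2 ∈ K := by
    have e : c⁻¹ * (w⁻¹ * c * w) = w ^ 2 := by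
      have e1 : c⁻¹ * w⁻¹ * c = w := by
        rw [← hinv]; group
      calc c⁻¹ * (w⁻¹ * c * w) = (c⁻¹ * w⁻¹ * c) * w := by group
        _ = w * w := by rw [e1]
        _ = w ^ 2 := (pow_two w).symm
    exact e ▸ mul_mem (inv_mem hc) hcw
  have hwK : w ∈ K := by
    obtain ⟨k, hk⟩ := exists_pow_eq_self_of_coprime (x := w) (n := 2)
      (Nat.coprime_two_left.2 hw)
    exact hk ▸ pow_mem h2 k
  refine ⟨K, hK, hb, hc, ?_, hwK⟩
  have := mul_mem hgw (inv_mem hwK)
  rwa [mul_inv_cancel_right] at this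

theorem Hyp.isPSolvable_pair (h : Hyp G) [Finite G] (p : ℕ) [Fact p.Prime] (a b : G) :
    Cfsg.IsPSolvable p (closure ({a, b} : Set G)) := by
  haveI := h.pair_solvable a b
  exact Cores.isPSolvable_of_isSolvable

/-- Sylow subgroups for odd primes dividing the order are not cyclic. -/
theorem Hyp.not_isCyclic_sylow (h : Hyp G) [Finite G] {p : ℕ} [Fact p.Prime] (hp2 : p ≠ 2)
    (hdvd : p ∣ Nat.card G) (P : Sylow p G) : ¬ IsCyclic (P : Subgroup G) := fun hP => by
  haveI := h.simple
  exact hp2 (H81.CyclicPair.eq_two h.not_comm P hP hdvd fun a b _ _ => h.isPSolvable_pair p a b)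

/-- Some prime at least five divides the order. -/
theorem Hyp.exists_five_le (h : Hyp G) [Finite G] :
    ∃ p : ℕ, p.Prime ∧ 5 ≤ p ∧ p ∣ Nat.card G := by
  by_contra hc
  push Not at hc
  refine h.not_solvable (Cfsg.Agent.S0144.result 2 3 ((Nat.card G).factorization 2)
    ((Nat.card G).factorization 3) Nat.prime_two Nat.prime_three ?_)
  refine Nat.eq_of_factorization_eq Nat.card_pos.ne' (by positivity) fun q => ?_
  rw [Nat.factorization_mul (by positivity) (by positivity), Nat.prime_two.factorization_pow,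
    Nat.prime_three.factorization_pow]
  by_cases hq : q.Prime ∧ q ∣ Nat.card G
  · have : q = 2 ∨ q = 3 := by
      have hlt : q < 5 := by
        by_contra h5
        exact hc q hq.1 (by omega) hq.2
      have := hq.1.two_le
      interval_cases q <;> first | omega | exact absurd hq.1 (by norm_num)
    rcases this with rfl | rfl <;> simp
  · have h0 : (Nat.card G).factorization q = 0 := by
      by_contra h'
      exact hq ⟨Nat.prime_of_mem_primeFactors (Finsupp.mem_support_iff.2 h'),
        Nat.dvd_of_factorization_pos h'⟩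
    rw [h0]
    by_cases h2 : q = 2
    · subst h2; simp [h0]
    by_cases h3 : q = 3
    · subst h3; simp [h0]
    simp [Ne.symm h2, Ne.symm h3]

/-- An involution of `M` whose conjugates in `M` only meet 2-groups and inverted elements inside
`M` gives a contradiction. -/
theorem Hyp.false_of_involution (h : Hyp G) [Finite G] {M : Subgroup G} (hM : M ≠ ⊤) {c : G}
    (hc : orderOf c = 2) (hcM : c ∈ M)
    (h2 : ∀ d ∈ M, IsConj c d → ∀ R : Subgroup G, IsPGroup 2 R → d ∈ R → R ≤ M)
    (hinv : ∀ w : G, Odd (orderOf w) → c * w * c⁻¹ = w⁻¹ → w ∈ M) : False := by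
  have hcc : c * c = 1 := by rw [← pow_two, ← hc, pow_orderOf_eq_one]
  have hc' : c⁻¹ = c := inv_eq_of_mul_eq_one_right hcc
  have hall : ∀ g : G, g * c * g⁻¹ ∈ M := by
    intro g
    set d := g * c * g⁻¹ with hd
    have hdd : d * d = 1 := by
      rw [hd, show g * c * g⁻¹ * (g * c * g⁻¹) = g * (c * c) * g⁻¹ by group, hcc]
      group
    set u := c * d with hu
    have hcu : c * u * c⁻¹ = u⁻¹ := by
      rw [hu, hc', mul_inv_rev, hc', inv_eq_of_mul_eq_one_right hdd, ← mul_assoc c c d, hcc, one_mul]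
    have hcun : ∀ i : ℕ, c * u ^ i * c⁻¹ = (u ^ i)⁻¹ := by
      intro i
      rw [← conj_pow, hcu, inv_pow]
    have hn : orderOf u ≠ 0 := (orderOf_pos u).ne'
    obtain ⟨a, m, hm, hnm⟩ := Nat.exists_eq_pow_mul_and_not_dvd hn 2 (by norm_num)
    have hmodd : Odd m := Nat.not_even_iff_odd.1 fun he => hm (even_iff_two_dvd.1 he)
    set t := (m - 1) / 2 * ((m + 1) / 2) ^ a with ht
    have hdvd : m ∣ 2 * (2 ^ a * t) + 1 := by
      obtain ⟨j, rfl⟩ := hmodd
      have e1 : (2 * j + 1 - 1) / 2 = j := by omega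
      have e2 : (2 * j + 1 + 1) / 2 = j + 1 := by omega
      rw [ht, e1, e2, ← ZMod.natCast_eq_zero_iff]
      have e3 : ((2 * j + 1 : ℕ) : ZMod (2 * j + 1)) = 0 := ZMod.natCast_self _
      push_cast at e3 ⊢
      have e4 : (2 : ZMod (2 * j + 1)) * ((j : ZMod (2 * j + 1)) + 1) = 1 := by
        linear_combination e3
      calc (2 : ZMod (2 * j + 1)) * (2 ^ a * (j * ((j : ZMod (2 * j + 1)) + 1) ^ a)) + 1
          = 2 * j * (2 * ((j : ZMod (2 * j + 1)) + 1)) ^ a + 1 := by rw [mul_pow]; ring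
        _ = 0 := by rw [e4, one_pow, mul_one]; exact e3
    set k := 2 ^ a * t with hk
    have hwodd : Odd (orderOf (u ^ k)) := by
      refine Odd.of_dvd_nat hmodd (orderOf_dvd_of_pow_eq_one ?_)
      rw [← pow_mul, hk, mul_right_comm, ← hnm, pow_mul, pow_orderOf_eq_one, one_pow]
    have hwM : u ^ k ∈ M := hinv _ hwodd (hcun k)
    obtain ⟨e, he⟩ : ∃ e, e = u ^ k * c * (u ^ k)⁻¹ := ⟨_, rfl⟩
    have heM : e ∈ M := he ▸ mul_mem (mul_mem hwM hcM) (inv_mem hwM)
    have hec : e = u ^ (2 * k) * c := by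
      rw [he, mul_assoc, ← hcun k, hc', ← mul_assoc c (c * u ^ k) c, ← mul_assoc c c (u ^ k), hcc,
        one_mul, two_mul, pow_add, mul_assoc]
    have hprod : e * d = u ^ (2 * k + 1) := by
      rw [hec, pow_succ, mul_assoc, ← hu]
    have hee : e * e = 1 := by
      rw [he, show u ^ k * c * (u ^ k)⁻¹ * (u ^ k * c * (u ^ k)⁻¹) =
        u ^ k * (c * c) * (u ^ k)⁻¹ by group, hcc]
      group
    set v := u ^ (2 * k + 1) with hv
    have hvp : IsPGroup 2 (zpowers v) := by
      obtain ⟨j, hj⟩ := hdvd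
      refine IsPGroup.of_card_dvd_pow (n := a) ?_
      rw [Nat.card_zpowers]
      refine orderOf_dvd_of_pow_eq_one ?_
      rw [hv, ← pow_mul, hj, mul_right_comm, mul_comm m, ← hnm, pow_mul, pow_orderOf_eq_one, one_pow]
    have hep : IsPGroup 2 (zpowers e) := by
      refine IsPGroup.of_card_dvd_pow (n := 1) ?_
      rw [Nat.card_zpowers, pow_one]
      exact orderOf_dvd_of_pow_eq_one (by rw [pow_two]; exact hee)
    have hev : zpowers e ≤ normalizer (zpowers v : Set G) := by
      rw [zpowers_le]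
      refine mem_normalizer_iff_map_conj_eq.2 ?_
      rw [MonoidHom.map_zpowers]
      have : (MulAut.conj e).toMonoidHom v = v⁻¹ := by
        show e * v * e⁻¹ = v⁻¹
        rw [← hprod, mul_inv_rev, inv_eq_of_mul_eq_one_right hdd, inv_eq_of_mul_eq_one_right hee,
          ← mul_assoc, hee, one_mul]
      exact this ▸ zpowers_inv
    have hR : IsPGroup 2 (zpowers e ⊔ zpowers v : Subgroup G) :=
      hep.to_sup_of_normal_right' hvp hev
    have hdR : d ∈ zpowers e ⊔ zpowers v := by
      have : d = e * v := by rw [← hprod, ← mul_assoc, hee, one_mul]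
      rw [this]
      exact mul_mem (mem_sup_left (mem_zpowers e)) (mem_sup_right (mem_zpowers v))
    exact h2 e heM (isConj_iff.2 ⟨u ^ k, he.symm⟩) _ hR (mem_sup_left (mem_zpowers e)) hdR
  rcases h.normal_eq (normalClosure {c}) inferInstance with h1 | h1
  · have := h1 ▸ (subset_normalClosure rfl : c ∈ normalClosure ({c} : Set G))
    rw [mem_bot.1 this, orderOf_one] at hc
    omega
  · refine hM (eq_top_iff.2 (h1 ▸ (closure_le M).2 ?_))
    intro d hd
    obtain ⟨c0, hc0, hcd⟩ := Group.mem_conjugatesOfSet_iff.1 hd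
    obtain rfl : c0 = c := hc0
    obtain ⟨g, rfl⟩ := isConj_iff.1 hcd
    exact hall g

end Cfsg.Agent.H63.TwoGen
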