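import Cfsg.Agent.H63.TwoGen.Basic
import Cfsg.Agent.H47.LocalCore
import Cfsg.Agent.Coprime.Action
import Cfsg.Agent.H41.RankTwo
import Mathlib

/-!
# Maximal invariant subgroups for a plane

`E` is elementary of order `p ^ 2` and every `E`-invariant `q`-subgroup of a proper overgroup of
`E` lies in its `p'`-core. Then the maximal `E`-invariant `q`-subgroups are conjugate under `C(E)`.
-/

set_option autoImplicit false
set_option linter.style.haveILetI false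
open Cfsg

namespace Cfsg.Agent.H63.TwoGen

open Subgroup
open Cfsg.Agent.H47 (coreOf)
open Cfsg.Agent.Coprime (map_conj_map_conj map_conj_one map_conj_eq mem_normalizer_of_map_conj)

universe u
variable {G : Type u} [Group G]

/-- An `E`-invariant `q`-subgroup. -/
def IsInv (E : Subgroup G) (q : ℕ) (V : Subgroup G) : Prop :=
  IsPGroup q V ∧ E ≤ normalizer (V : Set G)

/-- Every `E`-invariant `q`-subgroup of a proper overgroup of `E` lies in the `p'`-core. -/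
def InvInCore (p : ℕ) (E : Subgroup G) (q : ℕ) : Prop :=
  ∀ K : Subgroup G, K ≠ ⊤ → E ≤ K → ∀ U : Subgroup G, U ≤ K → IsInv E q U → U ≤ coreOf p K

theorem le_normalizer_inter {S H K : Subgroup G} (hH : S ≤ normalizer (H : Set G))
    (hK : S ≤ normalizer (K : Set G)) : S ≤ normalizer ((H ⊓ K : Subgroup G) : Set G) :=
  fun s hs n => by
    simp only [coe_inf, Set.mem_inter_iff]
    exact and_congr (hH hs n) (hK hs n)

/-- The normalizer condition inside a finite `q`-group. -/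
theorem not_inf_normalizer_le [Finite G] {q : ℕ} [Fact q.Prime] {Q D : Subgroup G} (hQ : IsPGroup q Q)
    (hDQ : D < Q) : ¬ Q ⊓ normalizer (D : Set G) ≤ D := by
  intro hle
  haveI : Group.IsNilpotent Q := hQ.isNilpotent
  have hlt : D.subgroupOf Q < ⊤ :=
    lt_top_iff_ne_top.mpr fun h => hDQ.not_ge (subgroupOf_eq_top.mp h)
  obtain ⟨n, hn, hn'⟩ := SetLike.exists_of_lt
    (Group.normalizerCondition_of_isNilpotent (G := Q) _ hlt)
  refine hn' (hle ⟨n.2, fun c => ⟨fun hc => (hn ⟨c, hDQ.le hc⟩).mp hc, fun hc => ?_⟩⟩)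
  have hcQ : c ∈ Q := by
    have := Q.mul_mem (Q.mul_mem (Q.inv_mem n.2) (hDQ.le hc)) n.2
    simpa [mul_assoc] using this
  exact (hn ⟨c, hcQ⟩).mpr hc

theorem IsInv.conj {E V : Subgroup G} {q : ℕ} {c : G} (hV : IsInv E q V)
    (hc : c ∈ centralizer (E : Set G)) : IsInv E q (V.map (MulAut.conj c).toMonoidHom) := by
  refine ⟨hV.1.map _, fun a ha => mem_normalizer_of_map_conj ?_⟩
  rw [map_conj_map_conj, show a * c = c * a from mem_centralizer_iff.1 hc a ha, ← map_conj_map_conj,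
    map_conj_eq (hV.2 ha)]

theorem maximal_conj {E V : Subgroup G} {q : ℕ} {c : G} (hV : Maximal (IsInv E q) V)
    (hc : c ∈ centralizer (E : Set G)) :
    Maximal (IsInv E q) (V.map (MulAut.conj c).toMonoidHom) := by
  refine ⟨hV.1.conj hc, fun W hW hle => ?_⟩
  have hle' : V ≤ W.map (MulAut.conj c⁻¹).toMonoidHom := by
    have := Subgroup.map_mono (f := (MulAut.conj c⁻¹).toMonoidHom) hle
    rwa [map_conj_map_conj, inv_mul_cancel, map_conj_one] at this
  have h1 : V = W.map (MulAut.conj c⁻¹).toMonoidHom :=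
    le_antisymm hle' (hV.2 (hW.conj (inv_mem hc)) hle')
  rw [h1, map_conj_map_conj, mul_inv_cancel, map_conj_one]

theorem exists_maximal_ge [Finite G] {E V : Subgroup G} {q : ℕ} (hV : IsInv E q V) :
    ∃ W, V ≤ W ∧ Maximal (IsInv E q) W :=
  Finite.exists_le_maximal hV

/-- `V` and `W` are conjugate under `C(E)`. -/
def CConj (E V W : Subgroup G) : Prop :=
  ∃ k ∈ centralizer (E : Set G), W = V.map (MulAut.conj k).toMonoidHom

theorem CConj.trans {E U V W : Subgroup G} (h1 : CConj E U V) (h2 : CConj E V W) : CConj E U W := by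
  obtain ⟨a, ha, rfl⟩ := h1
  obtain ⟨b, hb, rfl⟩ := h2
  exact ⟨b * a, mul_mem hb ha, map_conj_map_conj b a U⟩

theorem CConj.symm {E V W : Subgroup G} (h : CConj E V W) : CConj E W V := by
  obtain ⟨a, ha, rfl⟩ := h
  exact ⟨a⁻¹, inv_mem ha, by rw [map_conj_map_conj, inv_mul_cancel, map_conj_one]⟩

theorem IsInv.inf {E U V : Subgroup G} {q : ℕ} (hU : IsInv E q U) (hV : E ≤ normalizer (V : Set G)) :
    IsInv E q (U ⊓ V) :=
  ⟨hU.1.to_le inf_le_left, le_normalizer_inter hU.2 hV⟩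

section Main

variable [Finite G] {p q : ℕ} [hp : Fact p.Prime] [hq : Fact q.Prime] (h : Hyp G) {E : Subgroup G}
  (hE : Cfsg.IsElementaryAbelian p E) (hcore : InvInCore p E q)

include hE hcore

/-- Two invariant `q`-subgroups of a proper overgroup extend to conjugate maximal ones. -/
theorem exists_cconj_ge {K U₁ U₂ : Subgroup G} (hK : K ≠ ⊤) (hEK : E ≤ K) (h1K : U₁ ≤ K)
    (h1 : IsInv E q U₁) (h2K : U₂ ≤ K) (h2 : IsInv E q U₂) :
    ∃ W₁ W₂, Maximal (IsInv E q) W₁ ∧ Maximal (IsInv E q) W₂ ∧ U₁ ≤ W₁ ∧ U₂ ≤ W₂ ∧ CConj E W₁ W₂ := by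
  set O := coreOf p K
  have hEO : E ≤ normalizer (O : Set G) := hEK.trans (H47.le_normalizer_coreOf K)
  have hcop : (Nat.card E).Coprime (Nat.card O) := by
    have hpE : IsPGroup p E := fun u => ⟨1, Subtype.ext (by simpa using hE.2 u u.2)⟩
    obtain ⟨n, hn⟩ := IsPGroup.iff_card.mp hpE
    rw [hn]
    exact ((H47.coprime_coreOf (p := p) K).symm).pow_left n
  haveI : IsMulCommutative E := hE.1
  have hsolv : Group.IsSolvable E ∨ Group.IsSolvable O :=
    Or.inl (Group.isSolvable_of_comm fun a b => mul_comm' a b)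
  obtain ⟨P₁, hP₁, hA₁⟩ := Coprime.exists_invariant_sylow_ge hEO hcop hsolv q
    (hcore K hK hEK U₁ h1K h1) h1.1 h1.2
  obtain ⟨P₂, hP₂, hA₂⟩ := Coprime.exists_invariant_sylow_ge hEO hcop hsolv q
    (hcore K hK hEK U₂ h2K h2) h2.1 h2.2
  obtain ⟨k, hk⟩ := MulAction.exists_smul_eq O P₁ P₂
  have e : ((P₁ : Subgroup O).map O.subtype).map (MulAut.conj (k : G)).toMonoidHom =
      (P₂ : Subgroup O).map O.subtype := by
    rw [← hk, Subgroup.map_map]
    show _ = ((P₁ : Subgroup O).map (MulAut.conj k).toMonoidHom).map O.subtype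
    rw [Subgroup.map_map]
    rfl
  obtain ⟨c, hc, hce⟩ := Coprime.exists_centralizer_conj hEO hcop hsolv hA₁ hA₂ k.2 e
  obtain ⟨W₁, hW₁, hW₁m⟩ := exists_maximal_ge (E := E) (q := q) ⟨P₁.isPGroup'.map _, hA₁⟩
  exact ⟨W₁, W₁.map (MulAut.conj c).toMonoidHom, hW₁m, maximal_conj hW₁m hc.2, hP₁.trans hW₁,
    hP₂.trans (hce ▸ Subgroup.map_mono hW₁), c, hc.2, rfl⟩

include h

/-- Maximal invariant subgroups meeting nontrivially are conjugate. -/
theorem cconj_of_inf_ne_bot {V₁ V₂ : Subgroup G} (h₁ : Maximal (IsInv E q) V₁)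
    (h₂ : Maximal (IsInv E q) V₂) (hne : V₁ ⊓ V₂ ≠ ⊥) : CConj E V₁ V₂ := by
  obtain ⟨D, hD⟩ : ∃ D, D = V₁ ⊓ V₂ := ⟨_, rfl⟩
  induction D using WellFoundedGT.induction generalizing V₁ V₂ with
  | ind D ih =>
    by_cases heq : V₁ = V₂
    · exact ⟨1, one_mem _, by rw [map_conj_one, heq]⟩
    have hD₁ : D < V₁ := lt_of_le_of_ne (hD ▸ inf_le_left) fun e =>
      heq (h₁.eq_of_le h₂.1 (by rw [← e, hD]; exact inf_le_right))
    have hD₂ : D < V₂ := lt_of_le_of_ne (hD ▸ inf_le_right) fun e =>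
      heq (h₂.eq_of_le h₁.1 (by rw [← e, hD]; exact inf_le_left)).symm
    have hDinv : IsInv E q D := hD ▸ h₁.1.inf h₂.1.2
    have hL : normalizer (D : Set G) ≠ ⊤ := h.normalizer_ne_top (hD ▸ hne) (h.ne_top_of_isPGroup hDinv.1)
    have hEn : E ≤ normalizer ((normalizer (D : Set G) : Subgroup G) : Set G) :=
      hDinv.2.trans le_normalizer
    have hle₁ : D ≤ V₁ ⊓ normalizer (D : Set G) := le_inf hD₁.le le_normalizer
    have hle₂ : D ≤ V₂ ⊓ normalizer (D : Set G) := le_inf hD₂.le le_normalizer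
    have hn₁ := not_inf_normalizer_le h₁.1.1 hD₁
    have hn₂ := not_inf_normalizer_le h₂.1.1 hD₂
    obtain ⟨W₁, W₂, hW₁, hW₂, hU₁, hU₂, hc⟩ := exists_cconj_ge hE hcore hL hDinv.2
      inf_le_right (h₁.1.inf hEn) inf_le_right (h₂.1.inf hEn)
    have hgt₁ : D < V₁ ⊓ W₁ := lt_of_le_of_ne (le_inf hD₁.le (hle₁.trans hU₁)) fun e =>
      hn₁ ((le_inf inf_le_left hU₁).trans e.ge)
    have hgt₂ : D < W₂ ⊓ V₂ := lt_of_le_of_ne (le_inf (hle₂.trans hU₂) hD₂.le) fun e =>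
      hn₂ ((le_inf hU₂ inf_le_left).trans e.ge)
    have hD0 : D ≠ ⊥ := hD ▸ hne
    exact ((ih _ hgt₁ h₁ hW₁ (fun e => hD0 (le_bot_iff.1 (e ▸ hgt₁.le))) rfl).trans hc).trans
      (ih _ hgt₂ hW₂ h₂ (fun e => hD0 (le_bot_iff.1 (e ▸ hgt₂.le))) rfl)

/-- The maximal invariant `q`-subgroups are conjugate under `C(E)`. -/
theorem cconj_of_maximal (hE2 : Nat.card E = p ^ 2) (hqp : q ≠ p) {V₁ V₂ : Subgroup G}
    (h₁ : Maximal (IsInv E q) V₁) (h₂ : Maximal (IsInv E q) V₂) : CConj E V₁ V₂ := by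
  have hnc : ¬ IsCyclic E := fun hc => by
    obtain ⟨⟨g, hg⟩, hgen⟩ := hc.exists_generator
    have h1 : Nat.card E ≤ p := by
      rw [← Nat.card_congr (Equiv.subtypeUnivEquiv hgen),
        show Nat.card {x : E // x ∈ zpowers (⟨g, hg⟩ : E)} = orderOf (⟨g, hg⟩ : E) from Nat.card_zpowers _]
      refine Nat.le_of_dvd hp.out.pos (orderOf_dvd_of_pow_eq_one (Subtype.ext ?_))
      simpa using hE.2 g hg
    have h2 : p * 2 ≤ p * p := Nat.mul_le_mul_left p hp.out.two_le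
    have h3 := hp.out.pos
    rw [hE2, pow_two] at h1
    omega
  by_cases hb₁ : V₁ = ⊥
  · exact ⟨1, one_mem _, by rw [map_conj_one, h₁.eq_of_le h₂.1 (hb₁ ▸ bot_le)]⟩
  by_cases hb₂ : V₂ = ⊥
  · exact ⟨1, one_mem _, by rw [map_conj_one, h₂.eq_of_le h₁.1 (hb₂ ▸ bot_le)]⟩
  obtain ⟨e, heE, he1, hVe⟩ :=
    H41.exists_centralizer_inf_ne_bot hE2 hnc h₁.1.1 hb₁ h₁.1.2
  obtain ⟨f, hfE, hf1, hVf⟩ :=
    H41.exists_centralizer_inf_ne_bot hE2 hnc h₂.1.1 hb₂ h₂.1.2
  haveI : IsMulCommutative E := hE.1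
  have hcomm : ∀ a ∈ E, ∀ b ∈ E, a * b = b * a := fun a ha b hb =>
    congrArg Subtype.val (mul_comm' (⟨a, ha⟩ : E) ⟨b, hb⟩)
  have hEC : ∀ a ∈ E, E ≤ centralizer ({a} : Set G) := fun a ha b hb =>
    mem_centralizer_singleton_iff.2 (hcomm b hb a ha)
  -- it suffices to find one proper overgroup of `E` meeting both fixed parts
  suffices hK : ∃ K : Subgroup G, K ≠ ⊤ ∧ E ≤ K ∧ V₁ ⊓ K ≠ ⊥ ∧ V₂ ⊓ K ≠ ⊥ by
    obtain ⟨K, hK, hEK, hn1, hn2⟩ := hK
    have hEn : E ≤ normalizer (K : Set G) := hEK.trans le_normalizer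
    obtain ⟨W₁, W₂, hW₁, hW₂, hU₁, hU₂, hc⟩ := exists_cconj_ge hE hcore hK hEK
      inf_le_right (h₁.1.inf hEn) inf_le_right (h₂.1.inf hEn)
    have m1 : V₁ ⊓ W₁ ≠ ⊥ := fun e => hn1 (le_bot_iff.1 (e ▸ le_inf inf_le_left hU₁))
    have m2 : W₂ ⊓ V₂ ≠ ⊥ := fun e => hn2 (le_bot_iff.1 (e ▸ le_inf hU₂ inf_le_left))
    exact ((cconj_of_inf_ne_bot h hE hcore h₁ hW₁ m1).trans hc).trans
      (cconj_of_inf_ne_bot h hE hcore hW₂ h₂ m2)
  by_cases hline : f ∈ zpowers e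
  · refine ⟨centralizer {e}, h.centralizer_ne_top he1, hEC e heE, hVe, fun e' => hVf ?_⟩
    rw [eq_bot_iff, ← e']
    refine inf_le_inf_left _ fun w hw => mem_centralizer_singleton_iff.2 ?_
    have he : e ∈ zpowers f := by
      haveI : Fact (Nat.card (zpowers e)).Prime :=
        ⟨by rw [Nat.card_zpowers, orderOf_eq_prime (hE.2 e heE) he1]; exact hp.out⟩
      rcases ((zpowers f).subgroupOf (zpowers e)).eq_bot_or_eq_top_of_prime_card with hb | hb
      · have : (⟨f, hline⟩ : zpowers e) ∈ (zpowers f).subgroupOf (zpowers e) := mem_zpowers f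
        rw [hb, mem_bot] at this
        exact absurd (congrArg Subtype.val this) hf1
      · exact subgroupOf_eq_top.1 hb (mem_zpowers e)
    obtain ⟨i, rfl⟩ := he
    exact ((show Commute w f from mem_centralizer_singleton_iff.1 hw).zpow_right i).eq
  obtain ⟨d, ⟨hdV, hdC⟩, hd1⟩ := (V₁ ⊓ centralizer ({e} : Set G)).bot_or_exists_ne_one.resolve_left hVe
  obtain ⟨g, ⟨hgV, hgC⟩, hg1⟩ := (V₂ ⊓ centralizer ({f} : Set G)).bot_or_exists_ne_one.resolve_left hVf
  have hcop : ∀ a ∈ E, a ≠ 1 → ∀ V : Subgroup G, IsPGroup q V → ∀ b ∈ V,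
      (orderOf a).Coprime (orderOf b) := by
    intro a ha ha1 V hV b hb
    rw [orderOf_eq_prime (hE.2 a ha) ha1]
    obtain ⟨m, hm⟩ := hV ⟨b, hb⟩
    refine Nat.Coprime.coprime_dvd_right (orderOf_dvd_of_pow_eq_one
      (by simpa using congrArg Subtype.val hm)) ?_
    exact ((Nat.coprime_primes hp.out hq.out).2 hqp.symm).pow_right m
  obtain ⟨K, hK, heK, hdK, hfK, hgK⟩ := h.exists_proper_four
    (show Commute e d from (mem_centralizer_singleton_iff.1 hdC).symm) (hcop e heE he1 _ h₁.1.1 d hdV)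
    (show Commute f g from (mem_centralizer_singleton_iff.1 hgC).symm) (hcop f hfE hf1 _ h₂.1.1 g hgV)
  refine ⟨K, hK, ?_, fun e' => hd1 (mem_bot.1 (e' ▸ (⟨hdV, hdK⟩ : d ∈ V₁ ⊓ K))),
    fun e' => hg1 (mem_bot.1 (e' ▸ (⟨hgV, hgK⟩ : g ∈ V₂ ⊓ K)))⟩
  have hz : ∀ a ∈ E, a ≠ 1 → Nat.card (zpowers a) = p := fun a ha ha1 => by
    rw [Nat.card_zpowers, orderOf_eq_prime (hE.2 a ha) ha1]
  have hsup : zpowers e ⊔ zpowers f ≤ E := sup_le (zpowers_le.2 heE) (zpowers_le.2 hfE)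
  have hd' : zpowers e ⊓ zpowers f = ⊥ := by
    haveI : Fact (Nat.card (zpowers f)).Prime := ⟨(hz f hfE hf1).symm ▸ hp.out⟩
    rcases ((zpowers e).subgroupOf (zpowers f)).eq_bot_or_eq_top_of_prime_card with hb | hb
    · rw [subgroupOf_eq_bot, disjoint_iff] at hb
      exact hb
    · exact absurd (subgroupOf_eq_top.mp hb (mem_zpowers f)) hline
  have hEeq : zpowers e ⊔ zpowers f = E := eq_of_le_of_card_ge hsup (by
    rw [Coprime.card_sup (fun w hw => centralizer_le_normalizer _ fun z hz' =>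
      hcomm z (zpowers_le.2 heE hz') w (zpowers_le.2 hfE hw)) hd', hz e heE he1, hz f hfE hf1, hE2,
      pow_two])
  exact hEeq ▸ sup_le (zpowers_le.2 heK) (zpowers_le.2 hfK)

/-- All `C(E)`-invariant `q`-subgroups normalized by `E` lie in one maximal invariant subgroup. -/
theorem exists_common_maximal (hE2 : Nat.card E = p ^ 2) (hqp : q ≠ p) :
    ∃ V, Maximal (IsInv E q) V ∧
      ∀ U : Subgroup G, IsInv E q U → centralizer (E : Set G) ≤ normalizer (U : Set G) → U ≤ V := by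
  obtain ⟨V, -, hV⟩ := exists_maximal_ge (E := E) (q := q) (V := ⊥)
    ⟨IsPGroup.of_bot, fun a _ => by
      rw [show normalizer ((⊥ : Subgroup G) : Set G) = ⊤ from normalizer_eq_top _]; exact mem_top a⟩
  refine ⟨V, hV, fun U hU hCU => ?_⟩
  obtain ⟨W, hUW, hW⟩ := exists_maximal_ge hU
  obtain ⟨k, hk, rfl⟩ := cconj_of_maximal h hE hcore hE2 hqp hW hV
  exact (map_conj_eq (hCU hk)).ge.trans (Subgroup.map_mono hUW)

end Main

end Cfsg.Agent.H63.TwoGen
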