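import Cfsg.Agent.H63.TwoGen.PlaneTools
import Cfsg.Agent.PGroups.CyclicMaximal
import Mathlib

/-!
# The last step of Flavell's theorem

For a large prime `p` the moved parts `[O_{p'}(C(e)), E]` generate a `q`-group; its normalizer is
the only maximal subgroup containing a suitable element of order `p`.
-/

set_option autoImplicit false
set_option linter.style.haveILetI false
open Cfsg

namespace Cfsg.Agent.H63.TwoGen

open Subgroup
open Cfsg.Agent.H47 (coreOf le_normalizer_coreOf coprime_coreOf coreOf_le)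
open scoped commutatorElement

universe u
variable {G : Type u} [Group G]

/-- The subgroup generated by the moved parts of the cores of the centralizers in `E`. -/
def movedSup (p : ℕ) (E : Subgroup G) : Subgroup G :=
  ⨆ e : {e : G // e ∈ E ∧ e ≠ 1}, ⁅coreOf p (centralizer ({(e : G)} : Set G)), E⁆

/-- The data attached to a plane. -/
structure Moved (G : Type u) [Group G] (p : ℕ) (E : Subgroup G) : Prop where
  hyp : Hyp G
  len : Len G p
  dvd : p ∣ Nat.card G
  plane : Cfsg.IsElementaryAbelian p E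
  card : Nat.card E = p ^ 2
  moved : ∃ q : ℕ, q.Prime ∧ q ≠ p ∧ ∀ K : Subgroup G, K ≠ ⊤ → E ≤ K →
    IsPGroup q (⁅coreOf p K, E⁆ : Subgroup G)

variable [Finite G] {p : ℕ} [hp : Fact p.Prime]

theorem Moved.solvable_of_coprime {E : Subgroup G} (hM : Moved G p E) {Q : Subgroup G}
    (hQ : (Nat.card Q).Coprime p) : Group.IsSolvable Q := by
  refine hM.hyp.proper_solvable _ ?_
  rintro rfl
  rw [Subgroup.card_top] at hQ
  exact hp.out.coprime_iff_not_dvd.1 hQ.symm hM.dvd

variable {E : Subgroup G}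

theorem Moved.centralizer_le_normalizer_movedSup (_hM : Moved G p E) :
    centralizer (E : Set G) ≤ normalizer (movedSup p E : Set G) := by
  intro c hc
  refine Coprime.mem_normalizer_of_map_conj ?_
  rw [movedSup, Subgroup.map_iSup]
  refine iSup_congr fun e => Coprime.map_conj_eq (Coprime.mem_normalizer_commutator ?_
    (centralizer_le_normalizer _ hc))
  exact le_normalizer_coreOf _ (centralizer_le_singleton e.2.1 hc)

theorem Moved.le_normalizer_movedSup (hM : Moved G p E) : E ≤ normalizer (movedSup p E : Set G) :=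
  le_trans (fun a ha => mem_centralizer_iff.2 fun _ hb =>
    (H47.commute_of_elementaryAbelian hM.plane hb ha).eq) hM.centralizer_le_normalizer_movedSup

theorem Moved.movedSup_ne_top (hM : Moved G p E) : movedSup p E ≠ ⊤ := by
  obtain ⟨q, hq, hqp, hmv⟩ := hM.moved
  haveI := Fact.mk hq
  have hcore : InvInCore p E q := fun K hK hEK U hUK hU => by
    refine hM.len.le_core E hM.plane hM.card K hK hEK U hUK ?_ hU.2
    obtain ⟨n, hn⟩ := IsPGroup.iff_card.1 hU.1
    rw [hn]
    exact ((Nat.coprime_primes hq hp.out).2 hqp).pow_left n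
  obtain ⟨V, hV, hall⟩ := exists_common_maximal hM.hyp hM.plane hcore hM.card hqp
  intro htop
  refine hM.hyp.ne_top_of_isPGroup hV.1.1 (eq_top_iff.2 (htop ▸ iSup_le fun e => hall _ ⟨?_, ?_⟩ ?_))
  · exact hmv _ (hM.hyp.centralizer_ne_top e.2.2) (le_centralizer_singleton hM.plane e.2.1)
  · intro a ha
    exact Coprime.mem_normalizer_commutator
      (le_normalizer_coreOf _ (le_centralizer_singleton hM.plane e.2.1 ha)) (le_normalizer ha)
  · intro c hc
    exact Coprime.mem_normalizer_commutator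
      (le_normalizer_coreOf _ (centralizer_le_singleton e.2.1 hc)) (centralizer_le_normalizer _ hc)

theorem Moved.movedSup_le_fixMod (hM : Moved G p E) : movedSup p E ≤ fixMod (movedSup p E) E :=
  fun _ hw => ⟨le_normalizer hw, fun _ ha => Coprime.commutator_le_left_of_normalizer
    hM.le_normalizer_movedSup (commutator_mem_commutator hw ha)⟩

theorem Moved.centralizer_le_fixMod (hM : Moved G p E) :
    centralizer (E : Set G) ≤ fixMod (movedSup p E) E := fun c hc =>
  ⟨hM.centralizer_le_normalizer_movedSup hc, fun a ha => by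
    rw [show ⁅c, a⁆ = 1 from commutatorElement_eq_one_iff_mul_comm.2
      (mem_centralizer_iff.1 hc a ha).symm]
    exact one_mem _⟩

theorem Moved.core_centralizer_le (hM : Moved G p E) {e : G} (he : e ∈ E) (he1 : e ≠ 1) :
    coreOf p (centralizer ({e} : Set G)) ≤ movedSup p E ⊔ centralizer (E : Set G) := by
  set O := coreOf p (centralizer ({e} : Set G))
  have hEO : E ≤ normalizer (O : Set G) :=
    (le_centralizer_singleton hM.plane he).trans (le_normalizer_coreOf _)
  have hcop : (Nat.card E).Coprime (Nat.card O) := by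
    rw [hM.card]
    exact (coprime_coreOf (p := p) _).symm.pow_left 2
  rw [← Coprime.commutator_sup_centralizer hEO hcop (Or.inr (hM.solvable_of_coprime (coprime_coreOf _)))]
  exact sup_le_sup (le_iSup (fun e : {e : G // e ∈ E ∧ e ≠ 1} =>
    ⁅coreOf p (centralizer ({(e : G)} : Set G)), E⁆) ⟨e, he, he1⟩) inf_le_right

/-- Every invariant `p'`-subgroup is fixed modulo the moved part. -/
theorem Moved.le_fixMod (hM : Moved G p E) {U : Subgroup G} (hU : (Nat.card U).Coprime p)
    (hEU : E ≤ normalizer (U : Set G)) : U ≤ fixMod (movedSup p E) E := by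
  refine le_of_plane hM.plane hM.card hEU hU fun e he he1 => ?_
  refine le_trans ?_ ((hM.core_centralizer_le he he1).trans
    (sup_le hM.movedSup_le_fixMod hM.centralizer_le_fixMod))
  refine hM.len.le_core E hM.plane hM.card _ (hM.hyp.centralizer_ne_top he1)
    (le_centralizer_singleton hM.plane he) _ inf_le_right
    (Nat.Coprime.coprime_dvd_left (card_dvd_of_le inf_le_left) hU) ?_
  exact le_normalizer_inter hEU ((le_centralizer_singleton hM.plane he).trans le_normalizer)

theorem Moved.commutator_le_movedSup (hM : Moved G p E) {U : Subgroup G}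
    (hU : (Nat.card U).Coprime p) (hEU : E ≤ normalizer (U : Set G)) : ⁅U, E⁆ ≤ movedSup p E :=
  commutator_le_of_le_fixMod (hM.le_fixMod hU hEU)

theorem Moved.normalizer_le_normalizer_movedSup (hM : Moved G p E) :
    normalizer (E : Set G) ≤ normalizer (movedSup p E : Set G) := by
  suffices key : ∀ n ∈ normalizer (E : Set G), ∀ w ∈ movedSup p E, n * w * n⁻¹ ∈ movedSup p E from
    le_normalizer_iff.2 fun n hn w hw => key n hn w hw
  intro n hn
  suffices h : (movedSup p E).map (MulAut.conj n).toMonoidHom ≤ movedSup p E from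
    fun w hw => h (mem_conjMap hw)
  conv_lhs => rw [movedSup, Subgroup.map_iSup]
  refine iSup_le fun e => ?_
  rw [Subgroup.map_commutator, Coprime.map_conj_eq hn]
  refine hM.commutator_le_movedSup (by rw [Coprime.card_map_conj]; exact coprime_coreOf _) ?_
  conv_lhs => rw [← Coprime.map_conj_eq hn]
  exact (Subgroup.map_mono ((le_centralizer_singleton hM.plane e.2.1).trans
    (le_normalizer_coreOf _))).trans (le_normalizer_map _)

/-- The commutator of an element of a normalized `p'`-group with `x ∈ E` is fixed modulo `W`. -/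
theorem Moved.commutator_mem_fixMod (hM : Moved G p E) {x : G} (hx : x ∈ E) (hx1 : x ≠ 1)
    {Q : Subgroup G} (hQ : (Nat.card Q).Coprime p) (hxQ : x ∈ normalizer (Q : Set G)) {v : G}
    (hv : v ∈ Q) : ⁅v, x⁆ ∈ fixMod (movedSup p E) E := by
  have hox := orderOf_of_mem_plane hM.plane hx hx1
  obtain ⟨k, hk, hkx⟩ := exists_conj_in_pair hox hQ hxQ hv
  obtain ⟨c, hc, hnot⟩ := exists_independent hM.card hox
  obtain ⟨K, hK, hxK, -, hck, hconj⟩ := hM.hyp.exists_proper_conj (b := x) (x := x) (c := c) k⁻¹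
    (mem_zpowers x) (H47.commute_of_elementaryAbelian hM.plane hx hc)
  rw [inv_inv, hkx] at hconj
  have hkK : k ∈ K := (closure_le K).2 (by
    intro z hz
    rcases hz with rfl | rfl
    · exact hxK
    · exact hconj) hk
  have hcK : c ∈ K := by simpa using mul_mem hck hkK
  have hEK : E ≤ K := plane_le hM.plane hM.card hx hxK hc hcK hx1 hnot
  obtain ⟨R, hR⟩ := OddOrder.BG11.exists_sylowOf p K
  have hxR : x ∈ coreOf p K ⊔ R := mem_core_sup hM.len hK hR hxK
    (IsPGroup.of_card (n := 1) (by rw [Nat.card_zpowers, hox, pow_one]))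
  have hu : ⁅v, x⁆ ∈ coreOf p K ⊔ R := by
    rw [show ⁅v, x⁆ = v * x * v⁻¹ * x⁻¹ from commutatorElement_def v x, ← hkx]
    exact mul_mem (Coprime.conj_mem (le_normalizer_core_sup hM.len hK hR hkK) hxR) (inv_mem hxR)
  have huQ : ⁅v, x⁆ ∈ Q := by
    rw [show ⁅v, x⁆ = v * (x * v⁻¹ * x⁻¹) by simp only [commutatorElement_def]; group]
    exact mul_mem hv (Coprime.conj_mem hxQ (inv_mem hv))
  exact hM.le_fixMod (coprime_coreOf K) (hEK.trans (le_normalizer_coreOf K))
    (mem_core_of_coprime hR hu (coprime_orderOf hQ huQ))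

theorem Moved.commutator_zpowers_le (hM : Moved G p E) {x : G} (hx : x ∈ E)
    {Q : Subgroup G} (hQ : (Nat.card Q).Coprime p) (hxQ : x ∈ normalizer (Q : Set G)) :
    ⁅Q, zpowers x⁆ ≤ movedSup p E := by
  have h1 : ⁅Q, zpowers x⁆ ≤ fixMod (movedSup p E) E := by
    rw [commutator_le]
    intro v hv y hy
    by_cases hy1 : y = 1
    · rw [hy1, commutatorElement_one_right]
      exact one_mem _
    · exact hM.commutator_mem_fixMod (zpowers_le.2 hx hy) hy1 hQ (zpowers_le.2 hxQ hy) hv
  have hcop : (Nat.card (zpowers x)).Coprime (Nat.card Q) := by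
    refine Nat.Coprime.coprime_dvd_left ?_ hQ.symm
    rw [Nat.card_zpowers]
    exact orderOf_dvd_of_pow_eq_one (hM.plane.2 x hx)
  rw [← Coprime.commutator_commutator_eq (zpowers_le.2 hxQ) hcop
    (Or.inr (hM.solvable_of_coprime hQ))]
  exact (commutator_mono h1 (zpowers_le.2 hx)).trans (commutator_le_of_le_fixMod le_rfl)

theorem Moved.le_commutator_sup (hM : Moved G p E) {x : G} (hx : x ∈ E)
    {Q : Subgroup G} (hQ : (Nat.card Q).Coprime p) (hxQ : x ∈ normalizer (Q : Set G)) :
    Q ≤ ⁅Q, zpowers x⁆ ⊔ centralizer ({x} : Set G) := by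
  have hcop : (Nat.card (zpowers x)).Coprime (Nat.card Q) := by
    refine Nat.Coprime.coprime_dvd_left ?_ hQ.symm
    rw [Nat.card_zpowers]
    exact orderOf_dvd_of_pow_eq_one (hM.plane.2 x hx)
  conv_lhs => rw [← Coprime.commutator_sup_centralizer (zpowers_le.2 hxQ) hcop
    (Or.inr (hM.solvable_of_coprime hQ))]
  refine sup_le_sup le_rfl (inf_le_right.trans fun w hw => mem_centralizer_singleton_iff.2 ?_)
  exact (mem_centralizer_iff.1 hw x (mem_zpowers x)).symm

/-- The case in which the plane is weakly closed. -/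
theorem Moved.false_of_omega (hM : Moved G p E) {P : Subgroup G} (hP : H40.IsSylowOf p P ⊤)
    (hEP : E ≤ P) (hom : ∀ y ∈ P, y ^ p = 1 → y ∈ E) : False := by
  set W := movedSup p E with hW
  have hE1 : E ≠ ⊥ := fun e => by
    have h2 := hM.card
    rw [e, card_bot] at h2
    exact (Nat.one_lt_pow two_ne_zero hp.out.one_lt).ne h2
  have hEtop : E ≠ ⊤ := hM.hyp.ne_top_of_isPGroup (H47.isPGroup_of_elementaryAbelian hM.plane)
  obtain ⟨M, hMtop, hNE, hWM⟩ : ∃ M : Subgroup G, M ≠ ⊤ ∧ normalizer (E : Set G) ≤ M ∧ W ≤ M := by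
    by_cases hW1 : W = ⊥
    · exact ⟨_, hM.hyp.normalizer_ne_top hE1 hEtop, le_rfl, hW1 ▸ bot_le⟩
    · exact ⟨_, hM.hyp.normalizer_ne_top hW1 hM.movedSup_ne_top,
        hM.normalizer_le_normalizer_movedSup, le_normalizer⟩
  have hCE : centralizer (E : Set G) ≤ M := (centralizer_le_normalizer _).trans hNE
  -- every `p`-group containing `E` has all its elements of order `p` in `E`
  have key : ∀ T : Subgroup G, IsPGroup p T → E ≤ T → ∀ y ∈ T, y ^ p = 1 → y ∈ E := by
    intro T hT hET y hy hyp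
    obtain ⟨m, -, hle⟩ := OddOrder.BG11.exists_conj_le hP hT (le_top)
    have hEm : E.map (MulAut.conj m).toMonoidHom = E := by
      refine eq_of_le_of_card_ge ?_ (by rw [Coprime.card_map_conj])
      rintro _ ⟨e, he, rfl⟩
      refine hom _ (hle (mem_conjMap (hET he))) ?_
      show (m * e * m⁻¹) ^ p = 1
      rw [conj_pow, hM.plane.2 e he, mul_one, mul_inv_cancel]
    have : m * y * m⁻¹ ∈ E.map (MulAut.conj m).toMonoidHom := by
      rw [hEm]
      exact hom _ (hle (mem_conjMap hy)) (by rw [conj_pow, hyp, mul_one, mul_inv_cancel])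
    obtain ⟨e, he, e'⟩ := this
    exact (MulAut.conj m).injective e' ▸ he
  -- the centralizers in `E`
  have hC : ∀ e ∈ E, e ≠ 1 → centralizer ({e} : Set G) ≤ M := by
    intro e he he1
    obtain ⟨R, hR, hER⟩ := OddOrder.BG11.exists_sylowOf_ge'
      (H47.isPGroup_of_elementaryAbelian hM.plane) (le_centralizer_singleton hM.plane he)
    refine (hM.len.split _ (hM.hyp.centralizer_ne_top he1) R hR).trans (sup_le ?_ ?_)
    · exact (hM.core_centralizer_le he he1).trans (sup_le hWM hCE)
    · refine inf_le_right.trans (le_trans (fun n hn => ?_) hNE)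
      refine Coprime.mem_normalizer_of_map_conj
        (eq_of_le_of_card_ge ?_ (by rw [Coprime.card_map_conj]))
      rintro _ ⟨f, hf, rfl⟩
      refine key R hR.2.1 hER _ (Coprime.conj_mem hn (hER hf)) ?_
      show (n * f * n⁻¹) ^ p = 1
      rw [conj_pow, hM.plane.2 f hf, mul_one, mul_inv_cancel]
  obtain ⟨x, hx, hx1⟩ := E.bot_or_exists_ne_one.resolve_left hE1
  have hox := orderOf_of_mem_plane hM.plane hx hx1
  -- conjugates of `E` through `x` come from `M`
  have hmove : ∀ g : G, x ∈ E.map (MulAut.conj g).toMonoidHom → g ∈ M := by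
    intro g hxg
    obtain ⟨T, hT, hET⟩ := OddOrder.BG11.exists_sylowOf_ge'
      (H47.isPGroup_of_elementaryAbelian hM.plane) (le_centralizer_singleton hM.plane hx)
    obtain ⟨x0, hx0, hgx⟩ := hxg
    have hgC : E.map (MulAut.conj g).toMonoidHom ≤ centralizer ({x} : Set G) := by
      rintro _ ⟨f, hf, rfl⟩
      refine mem_centralizer_singleton_iff.2 ?_
      rw [← hgx]
      exact ((H47.commute_of_elementaryAbelian hM.plane hf hx0).map (MulAut.conj g).toMonoidHom).eq
    obtain ⟨m, hm, hle⟩ := OddOrder.BG11.exists_conj_le hT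
      ((H47.isPGroup_of_elementaryAbelian hM.plane).map _) hgC
    have hmg : m * g ∈ normalizer (E : Set G) := by
      refine Coprime.mem_normalizer_of_map_conj
        (eq_of_le_of_card_ge ?_ (by rw [Coprime.card_map_conj]))
      rintro _ ⟨f, hf, rfl⟩
      refine key T hT.2.1 hET _ ?_ ?_
      · have := hle (mem_conjMap (g := m) (mem_conjMap (g := g) hf))
        simpa [mul_assoc] using this
      · show (m * g * f * (m * g)⁻¹) ^ p = 1
        rw [conj_pow, hM.plane.2 f hf, mul_one, mul_inv_cancel]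
    have := mul_mem (inv_mem (hC x hx hx1 hm)) (hNE hmg)
    rwa [inv_mul_cancel_left] at this
  refine hM.hyp.false_of_unique (x := x) hMtop fun H hH hxH => ?_
  obtain ⟨R, hR, hxR⟩ := OddOrder.BG11.exists_sylowOf_ge' (U := zpowers x) (p := p)
    (IsPGroup.of_card (n := 1) (by rw [Nat.card_zpowers, hox, pow_one])) (zpowers_le.2 hxH)
  refine (hM.len.split H hH R hR).trans (sup_le ?_ (inf_le_right.trans fun n hn => ?_))
  · exact (hM.le_commutator_sup hx (coprime_coreOf H) (le_normalizer_coreOf H hxH)).trans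
      (sup_le ((hM.commutator_zpowers_le hx (coprime_coreOf H) (le_normalizer_coreOf H hxH)).trans
        hWM) (hC x hx hx1))
  -- `R` lies in a conjugate of `P`
  obtain ⟨m, -, hle⟩ := OddOrder.BG11.exists_conj_le hP hR.2.1 (le_top)
  have hin : ∀ y ∈ R, y ^ p = 1 → y ∈ E.map (MulAut.conj m⁻¹).toMonoidHom := fun y hy hyp =>
    ⟨m * y * m⁻¹, hom _ (hle (mem_conjMap hy)) (by rw [conj_pow, hyp, mul_one, mul_inv_cancel]),
      by simp [mul_assoc]⟩
  have hxm := hin x (hxR (mem_zpowers x)) (hM.plane.2 x hx)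
  have hminv : m⁻¹ ∈ M := hmove _ hxm
  have hnxR : n * x * n⁻¹ ∈ R := Coprime.conj_mem hn (hxR (mem_zpowers x))
  have hnxp : (n * x * n⁻¹) ^ p = 1 := by rw [conj_pow, hM.plane.2 x hx, mul_one, mul_inv_cancel]
  by_cases hcyc : n * x * n⁻¹ ∈ zpowers x
  · refine hmove n ?_
    obtain ⟨i, hi⟩ := mem_zpowers_comm hox hcyc (fun e => hx1 (by simpa using conj_eq_one_iff.1 e))
    exact ⟨x ^ i, E.zpow_mem hx i, by
      rw [MulEquiv.coe_toMonoidHom, MulAut.conj_apply, ← conj_zpow]; exact hi⟩
  -- two independent elements of order `p` in `R`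
  · have hEm : E.map (MulAut.conj m⁻¹).toMonoidHom ≤ R := by
      refine plane_le (p := p) ?_ (by rw [Coprime.card_map_conj, hM.card]) hxm
        (hxR (mem_zpowers x)) (hin _ hnxR hnxp) hnxR hx1 hcyc
      refine ⟨⟨⟨?_⟩⟩, ?_⟩
      · rintro ⟨_, a, ha, rfl⟩ ⟨_, b, hb, rfl⟩
        exact Subtype.ext ((H47.commute_of_elementaryAbelian hM.plane ha hb).map
          (MulAut.conj m⁻¹).toMonoidHom).eq
      · rintro _ ⟨a, ha, rfl⟩
        rw [← map_pow, hM.plane.2 a ha, map_one]
    have hnm : n * m⁻¹ ∈ M := by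
      refine hmove _ ?_
      have h1 : n⁻¹ * x * n ∈ E.map (MulAut.conj m⁻¹).toMonoidHom :=
        hin _ (Coprime.conj_mem' hn (hxR (mem_zpowers x))) (by
          rw [show n⁻¹ * x * n = n⁻¹ * x * n⁻¹⁻¹ by group, conj_pow, hM.plane.2 x hx, mul_one,
            mul_inv_cancel])
      obtain ⟨a, ha, ha'⟩ := h1
      refine ⟨a, ha, ?_⟩
      change m⁻¹ * a * m⁻¹⁻¹ = n⁻¹ * x * n at ha'
      show n * m⁻¹ * a * (n * m⁻¹)⁻¹ = x
      calc n * m⁻¹ * a * (n * m⁻¹)⁻¹ = n * (m⁻¹ * a * m⁻¹⁻¹) * n⁻¹ := by group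
        _ = x := by rw [ha']; group
    have := mul_mem hnm (inv_mem hminv)
    rwa [inv_inv, inv_mul_cancel_right] at this

/-- The case in which an element of order `p` is weakly closed. -/
theorem Moved.false_of_weaklyClosed (hM : Moved G p E) {P : Subgroup G}
    (hP : H40.IsSylowOf p P ⊤) {z : G} (hzE : z ∈ E) (hz1 : z ≠ 1)
    (hwc : ∀ g : G, g * z * g⁻¹ ∈ P → g * z * g⁻¹ ∈ zpowers z) : False := by
  have hoz := orderOf_of_mem_plane hM.plane hzE hz1
  set Uz := ⨆ Q : {Q : Subgroup G // (Nat.card Q).Coprime p ∧ z ∈ normalizer (Q : Set G)},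
    ⁅(Q : Subgroup G), zpowers z⁆ with hUz
  have hUW : Uz ≤ movedSup p E :=
    iSup_le fun Q => hM.commutator_zpowers_le hzE Q.2.1 Q.2.2
  have hUtop : Uz ≠ ⊤ := fun e => hM.movedSup_ne_top (top_le_iff.1 (e ▸ hUW))
  have hNU : normalizer (zpowers z : Set G) ≤ normalizer (Uz : Set G) := by
    refine le_normalizer_iff.2 fun n hn w hw => ?_
    suffices h : Uz.map (MulAut.conj n).toMonoidHom ≤ Uz from h (mem_conjMap hw)
    rw [hUz, Subgroup.map_iSup]
    refine iSup_le fun Q => ?_
    rw [Subgroup.map_commutator, Coprime.map_conj_eq hn]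
    refine le_trans ?_ (le_iSup (fun Q : {Q : Subgroup G //
      (Nat.card Q).Coprime p ∧ z ∈ normalizer (Q : Set G)} => ⁅(Q : Subgroup G), zpowers z⁆)
      ⟨(Q : Subgroup G).map (MulAut.conj n).toMonoidHom, ?_, ?_⟩)
    · exact le_rfl
    · rw [Coprime.card_map_conj]
      exact Q.2.1
    · have h1 : zpowers z ≤ normalizer ((Q : Subgroup G).map (MulAut.conj n).toMonoidHom : Set G) := by
        conv_lhs => rw [← Coprime.map_conj_eq hn]
        exact (Subgroup.map_mono (zpowers_le.2 Q.2.2)).trans (le_normalizer_map _)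
      exact h1 (mem_zpowers z)
  have hz0 : zpowers z ≠ ⊥ := by simpa using hz1
  have hzt : zpowers z ≠ ⊤ := hM.hyp.ne_top_of_isPGroup
    (IsPGroup.of_card (n := 1) (by rw [Nat.card_zpowers, hoz, pow_one]))
  obtain ⟨M, hMtop, hNz, hUM⟩ :
      ∃ M : Subgroup G, M ≠ ⊤ ∧ normalizer (zpowers z : Set G) ≤ M ∧ Uz ≤ M := by
    by_cases h1 : Uz = ⊥
    · exact ⟨_, hM.hyp.normalizer_ne_top hz0 hzt, le_rfl, h1 ▸ bot_le⟩
    · exact ⟨_, hM.hyp.normalizer_ne_top h1 hUtop, hNU, le_normalizer⟩
  refine hM.hyp.false_of_unique (x := z) hMtop fun H hH hzH => ?_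
  have hzn := le_normalizer_coreOf (p := p) H hzH
  obtain ⟨R, hR, hzR⟩ := OddOrder.BG11.exists_sylowOf_ge' (U := zpowers z) (p := p)
    (IsPGroup.of_card (n := 1) (by rw [Nat.card_zpowers, hoz, pow_one])) (zpowers_le.2 hzH)
  refine (hM.len.split H hH R hR).trans (sup_le ?_ (inf_le_right.trans fun n hn => ?_))
  · refine (hM.le_commutator_sup hzE (coprime_coreOf H) hzn).trans (sup_le (le_trans ?_ hUM) ?_)
    · exact le_iSup (fun Q : {Q : Subgroup G //
        (Nat.card Q).Coprime p ∧ z ∈ normalizer (Q : Set G)} => ⁅(Q : Subgroup G), zpowers z⁆)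
        ⟨coreOf p H, coprime_coreOf H, hzn⟩
    · intro w hw
      refine hNz (mem_normalizer_zpowers hoz ?_)
      rw [(mem_centralizer_singleton_iff.1 hw), mul_inv_cancel_right]
      exact mem_zpowers z
  obtain ⟨m, -, hle⟩ := OddOrder.BG11.exists_conj_le hP hR.2.1 (le_top)
  have h1 : m ∈ normalizer (zpowers z : Set G) :=
    mem_normalizer_zpowers hoz (hwc m (hle (mem_conjMap (hzR (mem_zpowers z)))))
  have h2 : m * n ∈ normalizer (zpowers z : Set G) := by
    refine mem_normalizer_zpowers hoz (hwc _ ?_)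
    have := hle (mem_conjMap (g := m) (Coprime.conj_mem hn (hzR (mem_zpowers z))))
    simpa [mul_assoc] using this
  exact hNz (by simpa using mul_mem (inv_mem h1) h2)

end Cfsg.Agent.H63.TwoGen
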