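import Cfsg.Agent.H63.TwoGen.Endgame
import Mathlib

/-!
# Weak closure of a central element of order `p` in rank two

If the Sylow `p`-subgroup has more than `p ^ 2 - 1` elements of order `p`, its centre contains one
subgroup of order `p` and that subgroup is weakly closed.
-/

set_option autoImplicit false
set_option linter.style.haveILetI false
open Cfsg

namespace Cfsg.Agent.H63.TwoGen

open Subgroup
open Cfsg.Agent.H47 (coreOf le_normalizer_coreOf coprime_coreOf coreOf_le)

universe u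
variable {G : Type u} [Group G] [Finite G] {p : ℕ} [hp : Fact p.Prime]

/-- A noncentral element of a central plane is moved by some element normalizing the plane. -/
theorem exists_moving (hr : Cfsg.PRankLE p 2 G) {S F : Subgroup G} (hS : IsPGroup p S)
    (hF : Cfsg.IsElementaryAbelian p F) (hF2 : Nat.card F = p ^ 2) (hFS : F ≤ S) {w w' : G}
    (hw : w ∈ F) (hw' : w' ∈ F) (hw1 : w ≠ 1) (hnot : w' ∉ zpowers w)
    (hcen : ∀ s ∈ S, Commute s w) (hmov : ∃ s ∈ S, ¬ Commute s w') :
    ∃ a ∈ S, a ∈ normalizer (F : Set G) ∧ ¬ Commute a w' := by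
  set D := S ⊓ centralizer ({w'} : Set G) with hD
  have hDS : D < S := by
    refine lt_of_le_of_ne inf_le_left fun e => ?_
    obtain ⟨s, hs, hsc⟩ := hmov
    exact hsc (mem_centralizer_singleton_iff.1 (e.ge hs).2)
  obtain ⟨a, ⟨haS, haN⟩, haD⟩ := SetLike.not_le_iff_exists.1 (not_inf_normalizer_le hS hDS)
  refine ⟨a, haS, ?_, fun hc => haD ⟨haS, mem_centralizer_singleton_iff.2 hc.eq⟩⟩
  refine Coprime.mem_normalizer_of_map_conj (eq_of_le_of_card_ge ?_ (by rw [Coprime.card_map_conj]))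
  rintro _ ⟨f, hf, rfl⟩
  have hfD : f ∈ D := ⟨hFS hf,
    mem_centralizer_singleton_iff.2 (H47.commute_of_elementaryAbelian hF hf hw').eq⟩
  have h1 : a * f * a⁻¹ ∈ D := Coprime.conj_mem haN hfD
  refine mem_of_commute hr hF hF2 ?_ fun e he => ?_
  · show (a * f * a⁻¹) ^ p = 1
    rw [conj_pow, hF.2 f hf, mul_one, mul_inv_cancel]
  -- `a * f * a⁻¹` commutes with `w` and with `w'`
  have hle : F ≤ centralizer ({a * f * a⁻¹} : Set G) :=
    plane_le hF hF2 hw (mem_centralizer_singleton_iff.2 ((hcen _ h1.1).symm).eq) hw'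
      (mem_centralizer_singleton_iff.2 (mem_centralizer_singleton_iff.1 h1.2).symm) hw1 hnot
  exact mem_centralizer_singleton_iff.1 (hle he)

/-- Two elements of `N(F)` act on the plane `F` with a common fixed point. -/
theorem exists_common_fixed (h : Hyp G) (hL : Len G p) {F : Subgroup G}
    (hF : Cfsg.IsElementaryAbelian p F) (hF2 : Nat.card F = p ^ 2) {a b : G}
    (ha : a ∈ normalizer (F : Set G)) (hb : b ∈ normalizer (F : Set G))
    (hpa : IsPGroup p (zpowers a)) (hpb : IsPGroup p (zpowers b)) :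
    ∃ w ∈ F, w ≠ 1 ∧ Commute a w ∧ Commute b w := by
  have hFp := H47.isPGroup_of_elementaryAbelian hF
  have hF1 : F ≠ ⊥ := fun e => by
    rw [e, card_bot] at hF2
    exact (Nat.one_lt_pow two_ne_zero hp.out.one_lt).ne hF2
  set N := normalizer (F : Set G)
  have hN : N ≠ ⊤ := h.normalizer_ne_top hF1 (h.ne_top_of_isPGroup hFp)
  obtain ⟨R, hR, hFR⟩ := OddOrder.BG11.exists_sylowOf_ge' hFp (le_normalizer : F ≤ N)
  haveI : (F.subgroupOf R).Normal :=
    (normal_subgroupOf_iff_le_normalizer hFR).2 hR.1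
  obtain ⟨w, hwF, hwc, hw⟩ := PGroups.exists_mem_center_orderOf_eq (p := p) hR.2.1 (F.subgroupOf R)
    (by rw [Ne, subgroupOf_eq_bot, disjoint_iff, inf_eq_left.2 hFR]; exact hF1)
  refine ⟨w, hwF, fun e => ?_, ?_, ?_⟩
  · have : w = 1 := Subtype.ext e
    rw [this, orderOf_one] at hw
    exact hp.out.one_lt.ne hw
  all_goals
    suffices key : ∀ c ∈ N, IsPGroup p (zpowers c) → Commute c (w : G) from
      key _ (by assumption) (by assumption)
    intro c hc hpc
    obtain ⟨o, ho, r, hr, rfl⟩ := (Coprime.mem_sup_iff (hR.1.trans (le_normalizer_coreOf N))).1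
      (mem_core_sup hL hN hR hc hpc)
    refine Commute.mul_left ?_ (congrArg Subtype.val (mem_center_iff.1 hwc ⟨r, hr⟩))
    exact (mem_centralizer_iff.1
      (H47.commute_of_pGroup_coreOf hFp le_normalizer le_rfl ho) w hwF).symm

/-- The contradiction, given the moved primes. -/
theorem false_of_len (h : Hyp G) (hL : Len G p) (hdvd : p ∣ Nat.card G)
    (hq : ∀ E : Subgroup G, Cfsg.IsElementaryAbelian p E → Nat.card E = p ^ 2 →
      ∃ q : ℕ, q.Prime ∧ q ≠ p ∧ ∀ K : Subgroup G, K ≠ ⊤ → E ≤ K →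
        IsPGroup q (⁅coreOf p K, E⁆ : Subgroup G)) : False := by
  have hp2 : p ≠ 2 := by have := hL.five; omega
  set S : Sylow p G := Classical.arbitrary _
  set P := (S : Subgroup G)
  have hP : H40.IsSylowOf p P ⊤ := OddOrder.BG11.isSylowOf_top S
  obtain ⟨A, hAn, hAc, hAe, hA2⟩ :=
    PGroups.exists_normal_elementary_sq hP.2.1 hp2 (h.not_isCyclic_sylow hp2 hdvd S)
  set E := A.map P.subtype with hEdef
  have hE : Cfsg.IsElementaryAbelian p E := by
    refine ⟨⟨⟨?_⟩⟩, ?_⟩
    · rintro ⟨_, a, ha, rfl⟩ ⟨_, b, hb, rfl⟩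
      exact Subtype.ext (congrArg Subtype.val (PGroups.comm_of_isMulCommutative hAc ha hb) :)
    · rintro _ ⟨a, ha, rfl⟩
      rw [← map_pow, hAe a ha, map_one]
  have hE2 : Nat.card E = p ^ 2 := by rw [hEdef, card_map_of_injective P.subtype_injective, hA2]
  have hEP : E ≤ P := map_subtype_le A
  have hM : Moved G p E := ⟨h, hL, hdvd, hE, hE2, hq E hE hE2⟩
  by_cases hom : ∀ y ∈ P, y ^ p = 1 → y ∈ E
  · exact hM.false_of_omega hP hEP hom
  push Not at hom
  obtain ⟨y, hyP, hyp, hyE⟩ := hom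
  haveI := hAn
  obtain ⟨⟨z, hzP⟩, hzA, hzc, hz⟩ :=
    PGroups.exists_mem_center_orderOf_eq (p := p) hP.2.1 A (fun e => by
      rw [e, card_bot] at hA2
      exact (Nat.one_lt_pow two_ne_zero hp.out.one_lt).ne hA2)
  have hzE : z ∈ E := ⟨_, hzA, rfl⟩
  rw [Subgroup.orderOf_mk] at hz
  have hz1 : z ≠ 1 := fun e => by rw [e, orderOf_one] at hz; exact hp.out.one_lt.ne hz
  have hzcomm : ∀ s ∈ P, Commute s z := fun s hs =>
    congrArg Subtype.val (mem_center_iff.1 hzc ⟨s, hs⟩)
  -- the centre has only one subgroup of order `p`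
  have hcent : ∀ w ∈ P, w ^ p = 1 → (∀ s ∈ P, Commute s w) → w ∈ zpowers z := by
    intro w hwP hwp hwc
    by_contra hnot
    have hw1 : w ≠ 1 := fun e => hnot (e ▸ one_mem _)
    obtain ⟨F, hF, hF2, hzF, hwF⟩ :=
      exists_plane hz (orderOf_eq_prime hwp hw1) (hzcomm w hwP).symm hnot
    have hFc : ∀ f ∈ F, ∀ s ∈ P, Commute f s := fun f hf s hs =>
      mem_centralizer_singleton_iff.1
        (plane_le (K := centralizer ({s} : Set G)) hF hF2 hzF
          (mem_centralizer_singleton_iff.2 (hzcomm s hs).symm.eq) hwF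
          (mem_centralizer_singleton_iff.2 (hwc s hs).symm.eq) hz1 hnot hf)
    have hEF : E ≤ F := fun e he =>
      mem_of_commute hL.rank hF hF2 (hE.2 e he) fun f hf => hFc f hf e (hEP he)
    refine hyE ?_
    rw [eq_of_le_of_card_ge hEF (by rw [hF2, hE2])]
    exact mem_of_commute hL.rank hF hF2 hyp fun f hf => hFc f hf y hyP
  refine hM.false_of_weaklyClosed hP hzE hz1 fun g hg => ?_
  set z' := g * z * g⁻¹ with hz'
  by_contra hnot
  have hoz' : orderOf z' = p := by
    have := MulEquiv.orderOf_eq (MulAut.conj g) z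
    rw [MulAut.conj_apply, hz] at this
    exact this
  have hz'p : z' ^ p = 1 := hoz' ▸ pow_orderOf_eq_one z'
  obtain ⟨F, hF, hF2, hzF, hz'F⟩ := exists_plane hz hoz' (hzcomm z' hg).symm hnot
  have hFP : F ≤ P := plane_le hF hF2 hzF hzP hz'F hg hz1 hnot
  obtain ⟨a, haP, haN, ha⟩ := exists_moving hL.rank hP.2.1 hF hF2 hFP hzF hz'F hz1 hnot hzcomm
    (by
      by_contra hc
      push Not at hc
      exact hnot (hcent z' hg hz'p hc))
  -- a Sylow subgroup centralizing `z'` and containing `z`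
  have hPg : H40.IsSylowOf p (P.map (MulAut.conj g).toMonoidHom) (centralizer ({z'} : Set G)) := by
    refine OddOrder.BG11.isSylowOf_mono (M := ⊤)
      ⟨le_top, hP.2.1.map _, by rw [Coprime.card_map_conj]; exact hP.2.2⟩ ?_ le_top
    rintro _ ⟨s, hs, rfl⟩
    exact mem_centralizer_singleton_iff.2 ((hzcomm s hs).map (MulAut.conj g).toMonoidHom).eq
  obtain ⟨m, hm, hle⟩ := OddOrder.BG11.exists_conj_le hPg
    (IsPGroup.of_card (n := 1) (by rw [Nat.card_zpowers, hz, pow_one]))
    (zpowers_le.2 (mem_centralizer_singleton_iff.2 (hzcomm z' hg).symm.eq))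
  set T := (P.map (MulAut.conj g).toMonoidHom).map (MulAut.conj m⁻¹).toMonoidHom with hT
  have hzT : z ∈ T := ⟨m * z * m⁻¹, hle (mem_conjMap (mem_zpowers z)), by simp [mul_assoc]⟩
  have hm' : Commute m⁻¹ z' :=
    (show Commute m z' from mem_centralizer_singleton_iff.1 hm).inv_left
  have hcenT : ∀ s ∈ T, Commute s z' := by
    rintro _ ⟨s, hs, rfl⟩
    have h1 : Commute s z' := mem_centralizer_singleton_iff.1 (hPg.1 hs)
    have h2 := h1.map (MulAut.conj m⁻¹).toMonoidHom
    rwa [MulEquiv.coe_toMonoidHom, MulAut.conj_apply, MulAut.conj_apply, hm'.eq,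
      mul_inv_cancel_right] at h2
  have hz'T : z' ∈ T := by
    refine ⟨z', mem_conjMap hzP, ?_⟩
    show m⁻¹ * z' * m⁻¹⁻¹ = z'
    rw [hm'.eq, mul_inv_cancel_right]
  have hnot' : z ∉ zpowers z' := fun hc => hnot (mem_zpowers_comm hoz' hc hz1)
  obtain ⟨b, hbT, hbN, hb⟩ := exists_moving hL.rank ((hP.2.1.map _).map _) hF hF2
    (plane_le (K := T) hF hF2 hzF hzT hz'F hz'T hz1 hnot) hz'F hzF
    (fun e => by rw [e, orderOf_one] at hoz'; exact hp.out.one_lt.ne hoz') hnot' hcenT (by
      by_contra hc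
      push Not at hc
      -- otherwise `g⁻¹ * m * z * m⁻¹ * g` is central in `P`
      obtain ⟨_, ⟨s, hs, rfl⟩, hzs⟩ := hzT
      have hscen : ∀ u ∈ P, Commute u s := by
        intro u hu
        have h1 := hc _ ⟨_, ⟨u, hu, rfl⟩, rfl⟩
        rw [← hzs] at h1
        exact (MulAut.conj g).injective.eq_iff.1 ((MulAut.conj m⁻¹).injective
          (by simpa only [map_mul, MulEquiv.coe_toMonoidHom] using h1.eq))
      have hsp : s ^ p = 1 := by
        refine (MulAut.conj g).injective ((MulAut.conj m⁻¹).injective ?_)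
        rw [map_one, map_one, map_pow, map_pow]
        rw [MulEquiv.coe_toMonoidHom, MulEquiv.coe_toMonoidHom] at hzs
        rw [hzs, ← hz, pow_orderOf_eq_one]
      obtain ⟨i, rfl⟩ := hcent s hs hsp hscen
      refine hnot' ⟨i, ?_⟩
      rw [← hzs]
      simp only [MulEquiv.coe_toMonoidHom, map_zpow, MulAut.conj_apply, ← hz']
      rw [hm'.eq, mul_inv_cancel_right])
  obtain ⟨w, hwF, hw1, haw, hbw⟩ := exists_common_fixed h hL hF hF2 haN hbN
    ((hP.2.1).to_le (zpowers_le.2 haP)) (((hP.2.1.map _).map _).to_le (zpowers_le.2 hbT))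
  have hwz : w ∈ zpowers z := by
    by_contra hc
    have := plane_le (K := centralizer ({a} : Set G)) hF hF2 hzF
      (mem_centralizer_singleton_iff.2 (hzcomm a haP).symm.eq) hwF
      (mem_centralizer_singleton_iff.2 haw.symm.eq) hz1 hc hz'F
    exact ha (mem_centralizer_singleton_iff.1 this).symm
  have hwz' : w ∈ zpowers z' := by
    by_contra hc
    have := plane_le (K := centralizer ({b} : Set G)) hF hF2 hz'F
      (mem_centralizer_singleton_iff.2 (hcenT b hbT).symm.eq) hwF
      (mem_centralizer_singleton_iff.2 hbw.symm.eq)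
      (fun e => by rw [e, orderOf_one] at hoz'; exact hp.out.one_lt.ne hoz') hc hzF
    exact hb (mem_centralizer_singleton_iff.1 this).symm
  exact hnot (zpowers_eq_of_mem hz hwz hw1 ▸ mem_zpowers_comm hoz' hwz' hw1)

end Cfsg.Agent.H63.TwoGen
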