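import Cfsg.Agent.H63.TwoGen.NoMoved.Minimal
import Mathlib

/-!
# Flavell's theorem: without a normal `E8`, large primes centralize 2-groups

If a Sylow 2-subgroup has no normal elementary abelian subgroup of order 8, an element of prime
order at least 5 centralizes every 2-subgroup it normalizes.
-/

set_option autoImplicit false
open Cfsg

namespace Cfsg.Agent.H63.TwoGen

open Subgroup

universe u

variable {G : Type u} [Group G]

/-- Without a normal elementary abelian subgroup of order 8 in a Sylow 2-subgroup, an element of
prime order at least 5 centralizes the 2-subgroups it normalizes. -/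
theorem Hyp.two_group_centralized (h : Hyp G) [Finite G] (S : Sylow 2 G)
    (hno : ∀ A : Subgroup G, A ≤ (S : Subgroup G) → (S : Subgroup G) ≤ normalizer (A : Set G) →
      Cfsg.IsElementaryAbelian 2 A → Nat.card A ≤ 4)
    (hrk : ∀ r : ℕ, r.Prime → 5 ≤ r → Cfsg.PRankLE r 2 G)
    {x : G} {p : ℕ} (hp : p.Prime) (hp5 : 5 ≤ p) (hx : orderOf x = p)
    (Y : Subgroup G) (hY : IsPGroup 2 Y) (hxY : x ∈ normalizer (Y : Set G)) :
    Y ≤ centralizer ({x} : Set G) := by
  induction Y using WellFoundedLT.induction with
  | ind Y ih =>
    by_contra hne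
    exact NoMoved.false_of_minimal h (NoMoved.noEight_of_sylow S hno) hrk hY hp hp5 hx hxY hne
      fun U hU hxU => ih U hU (hY.to_le hU.le) hxU

end Cfsg.Agent.H63.TwoGen
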