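import Cfsg.Agent.H63.TwoGen.OddRank.CoreLemma
import Cfsg.Agent.Thompson.Jay
import Cfsg.Agent.S0126

/-!
# Odd primes of rank three in the minimal counterexample

The signalizer values on elements of elementary subgroups of order `p ^ 3` are trivial, and
no prime at least five has rank three.
-/

set_option autoImplicit false
set_option linter.unusedSectionVars false
set_option linter.style.haveILetI false

namespace Cfsg.Agent.H63.TwoGen

open Subgroup
open Cfsg.Agent
open OddRank

universe u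

variable {G : Type u} [Group G]

/-- The values on elements of elementary subgroups of order at least `p ^ 3` are trivial. -/
theorem Hyp.core_eq_bot (h : Hyp G) [Finite G] {p : ℕ} [Fact p.Prime] (hp : p ≠ 2)
    {B : Subgroup G} (hB : Cfsg.IsElementaryAbelian p B) (hB3 : p ^ 3 ≤ Nat.card B) {b : G}
    (hb : b ∈ B) (hb1 : b ≠ 1) : Cfsg.centralizerPPrimeCore p b = ⊥ := by
  by_contra hne
  have c := exists_ctx h hp hB hB3 fun hbot => hne (le_bot_iff.mp (hbot ▸ le_sig hb hb1))
  set W := sig p B with hW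
  obtain ⟨P, hPM, hP3⟩ := c.sylow
  obtain ⟨z, hzP, hzo, hzc⟩ := exists_central P.isPGroup' (rank3_ne_bot hP3)
  obtain ⟨-, B₁, hB₁M, hB₁, hB₁3, hzB₁⟩ := c.strong_of_central hPM hP3 hzP hzo hzc
  obtain ⟨E, hE, hzE, hEc⟩ : ∃ E, E ≤ B₁ ∧ z ∈ E ∧ Nat.card E = p ^ 2 := by
    obtain ⟨E, hEc, hzE⟩ := Sylow.exists_subgroup_card_pow_succ
      (G := B₁) (p := p) (n := 1) (H := (zpowers z).subgroupOf B₁) (by
        obtain ⟨n, hn⟩ := elem_card hB₁
        rw [hn] at hB₁3 ⊢
        exact pow_dvd_pow p (le_trans (by norm_num)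
          ((Nat.pow_le_pow_iff_right (Fact.out : p.Prime).one_lt).mp hB₁3)))
      (by rw [Nat.card_congr (subgroupOfEquivOfLe (zpowers_le.mpr hzB₁)).toEquiv, Nat.card_zpowers,
        hzo, pow_one])
    exact ⟨E.map B₁.subtype, map_subtype_le _, ⟨⟨z, hzB₁⟩, hzE (mem_zpowers z), rfl⟩,
      by rw [card_map_of_injective B₁.subtype_injective, hEc]⟩
  have hstrong : ∀ e ∈ B₁, e ≠ 1 → Strong p (normalizer (W : Set G)) e := fun e he he1 =>
    ⟨elem_order hB₁ he he1, B₁, hB₁M, hB₁, hB₁3, he⟩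
  have hz1 : z ≠ 1 := elem_ne_one hzo
  refine false_of_core h c.ne_top (elemAb_of_le hB₁ hE) hEc (hE.trans hB₁M) hzE hz1
    (fun e he he1 => c.centralizer_le (hstrong e (hE he) he1)) (fun n hn => ?_)
    fun R hR hRM hnc => c.normalizer_le_of_noncyclic hR hRM hnc
  refine c.mem_of_strong (hstrong z hzB₁ hz1) (hstrong _ ?_ fun hc => hz1 (conj_eq_one_iff.mp hc))
  exact zpowers_le.mpr hzB₁ (Coprime.conj_mem hn (mem_zpowers z))

namespace OddRank

variable [Finite G] {p : ℕ} [hp : Fact p.Prime]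

theorem rank3_sylow {P Q : Sylow p G} (hP : Rank3 p (P : Subgroup G)) :
    Rank3 p (Q : Subgroup G) := by
  obtain ⟨B, hBP, hB, hB3⟩ := hP
  obtain ⟨g, rfl⟩ := MulAction.exists_smul_eq G P Q
  refine ⟨B.map (MulAut.conj g).toMonoidHom, Subgroup.map_mono hBP, ⟨⟨⟨?_⟩⟩, ?_⟩,
    by rwa [Coprime.card_map_conj]⟩
  · rintro ⟨_, a, ha, rfl⟩ ⟨_, b, hb, rfl⟩
    refine Subtype.ext ?_
    show (MulAut.conj g).toMonoidHom a * (MulAut.conj g).toMonoidHom b = _
    rw [← map_mul, elem_commute hB ha hb, map_mul]; rfl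
  · rintro _ ⟨a, ha, rfl⟩
    rw [← map_pow, hB.2 a ha, map_one]

/-- A noncyclic `p`-subgroup has a central element of order `p` with trivial value. -/
theorem exists_good (h : Hyp G) (hp2 : p ≠ 2) (P : Sylow p G) (hP : Rank3 p (P : Subgroup G))
    {Q : Subgroup G} (hQP : Q ≤ P) (hnc : ¬ IsCyclic Q) :
    ∃ y ∈ Q, y ≠ 1 ∧ (∀ q ∈ Q, q * y = y * q) ∧ th p y = ⊥ := by
  obtain ⟨E, hEP, hEn, hE, hEc⟩ := exists_plane hp2 P.isPGroup' hP
  obtain ⟨B, hBP, hB, hB3⟩ := hP
  obtain ⟨B', -, hB', hB'3, hEB', -⟩ := exists_join_plane P.isPGroup' hEP hEn hE hEc hBP hB hB3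
  have hQp : IsPGroup p Q := P.isPGroup'.to_le hQP
  set D := Q ⊓ centralizer (E : Set G) with hD
  have hQD : Q ≤ normalizer (D : Set G) := (le_inf Subgroup.le_normalizer
    ((hQP.trans hEn).trans (H40.normalizer_le_normalizer_centralizer E))).trans
    inf_normalizer_le_normalizer_inf
  have hne : D.subgroupOf Q ≠ ⊥ := by
    intro hbot
    obtain ⟨V, ⟨hVn, hVc⟩⟩ : ∃ V : Subgroup G, V ≤ Q ∧ Nat.card V = p ^ 2 := by
      obtain ⟨A, -, -, hA⟩ := Cfsg.Agent.S0126.result hp2 hQp hnc
      exact ⟨A.map Q.subtype, map_subtype_le A,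
        by rw [card_map_of_injective Q.subtype_injective, hA]⟩
    haveI : (E.subgroupOf (P : Subgroup G)).Normal := normal_subgroupOf_of_le_normalizer hEn
    have h1 := H41.card_le_mul_inf_centralizer P.isPGroup' (E.subgroupOf (P : Subgroup G))
      (by rw [Nat.card_congr (subgroupOfEquivOfLe hEP).toEquiv, hEc])
      (V.subgroupOf (P : Subgroup G))
    have h2 : V.subgroupOf (P : Subgroup G) ⊓
        centralizer (E.subgroupOf (P : Subgroup G) : Set (P : Subgroup G)) = ⊥ := by
      refine (Subgroup.eq_bot_iff_forall _).mpr fun w hw => Subtype.ext ?_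
      have hwD : (w : G) ∈ D := mem_inf.mpr ⟨hVn hw.1, mem_centralizer_iff.mpr fun e he =>
        congrArg Subtype.val (mem_centralizer_iff.mp hw.2 ⟨e, hEP he⟩ he)⟩
      have : (⟨(w : G), hwD.1⟩ : Q) ∈ D.subgroupOf Q := hwD
      rw [hbot, mem_bot] at this
      simpa using congrArg Subtype.val this
    rw [Nat.card_congr (subgroupOfEquivOfLe (hVn.trans hQP)).toEquiv, h2, Subgroup.card_bot,
      mul_one, hVc] at h1
    nlinarith [hp.out.one_lt]
  haveI : (D.subgroupOf Q).Normal := normal_subgroupOf_of_le_normalizer hQD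
  obtain ⟨y, hyD, hyc, hyo⟩ := PGroups.exists_mem_center_orderOf_eq hQp _ hne
  have hyo' : orderOf (y : G) = p := by rw [Subgroup.orderOf_coe, hyo]
  have hyp : (y : G) ^ p = 1 := hyo' ▸ pow_orderOf_eq_one _
  have hy1 : (y : G) ≠ 1 := elem_ne_one hyo'
  refine ⟨y, y.2, hy1,
    fun q hq => congrArg Subtype.val (Subgroup.mem_center_iff.mp hyc ⟨q, hq⟩), ?_⟩
  by_cases hyE : (y : G) ∈ E
  · exact h.core_eq_bot hp2 hB' hB'3 (hEB' hyE) hy1
  · have hEy : Cfsg.IsElementaryAbelian p (E ⊔ zpowers (y : G) : Subgroup G) :=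
      elemAb_sup hE (elemAb_zpowers hyp) fun a ha w hw => by
        obtain ⟨i, rfl⟩ := mem_zpowers_iff.mp hw
        exact ((show Commute a (y : G) from
          mem_centralizer_iff.mp (mem_inf.mp hyD).2 a ha).zpow_right i).eq
    have h3 := card_mul_le (H47.isPGroup_of_elementaryAbelian hEy)
      (lt_of_le_of_ne le_sup_left fun he => hyE (he ▸ mem_sup_right (mem_zpowers _)))
    rw [hEc, ← pow_succ'] at h3
    exact h.core_eq_bot hp2 hEy h3 (mem_sup_right (mem_zpowers _)) hy1

/-- The normalizer of a noncyclic `p`-subgroup has trivial core. -/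
theorem core_normalizer_eq_bot (h : Hyp G) (hp2 : p ≠ 2) (P : Sylow p G)
    (hP : Rank3 p (P : Subgroup G)) {Q : Subgroup G} (hQP : Q ≤ P) (hnc : ¬ IsCyclic Q) :
    Signalizer.core p (normalizer (Q : Set G)) = ⊥ := by
  obtain ⟨y, hyQ, hy1, hyc, hth⟩ := exists_good h hp2 P hP hQP hnc
  have hQp : IsPGroup p Q := P.isPGroup'.to_le hQP
  set N := normalizer (Q : Set G) with hN
  set U := Signalizer.core p N with hU
  have hUQ : U ≤ centralizer (Q : Set G) := by
    refine fun w hw => mem_centralizer_iff.mpr fun q hq =>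
      commutatorElement_eq_one_iff_mul_comm.mp ?_
    have hdisj : Q ⊓ U = ⊥ := Cores.disjoint_of_isPGroup_of_coprime hQp
      ((hp.out.coprime_iff_not_dvd.mpr (Signalizer.not_dvd_card_core N)).symm)
    refine mem_bot.mp (hdisj.le (mem_inf.mpr ⟨?_, ?_⟩))
    · rw [commutatorElement_def, mul_assoc q w q⁻¹, mul_assoc q]
      exact mul_mem hq (Coprime.conj_mem (Signalizer.core_le N hw) (inv_mem hq))
    · rw [commutatorElement_def]
      exact mul_mem (Coprime.conj_mem (Signalizer.le_normalizer_core N (Subgroup.le_normalizer hq))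
        hw) (inv_mem hw)
  have hCy : centralizer (Q : Set G) ≤ centralizer ({y} : Set G) :=
    Subgroup.centralizer_le (Set.singleton_subset_iff.mpr hyQ)
  refine le_bot_iff.mp (hth ▸ ?_)
  rw [th_eq]
  exact le_core_of_centralized (h.centralizer_solvable hy1)
    (fun q hq => mem_centralizer_singleton_iff.mpr (hyc q hq)) hQp (hUQ.trans hCy)
    (Signalizer.not_dvd_card_core N) hUQ
    ((inf_le_right.trans (centralizer_le_normalizer _)).trans (Signalizer.le_normalizer_core N))

theorem zjay_sylow {P : Sylow p G} {M : Subgroup G} (hPM : (P : Subgroup G) ≤ M)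
    (hM : M ≤ normalizer (Thompson.zjay 0 (P : Subgroup G) : Set G)) {T : Subgroup G}
    (hT : IsPGroup p T) (hTM : T ≤ M) :
    ∃ P' : Sylow p G, T ≤ (P' : Subgroup G) ∧ (P' : Subgroup G) ≤ M ∧
      Thompson.zjay 0 (P' : Subgroup G) = Thompson.zjay 0 (P : Subgroup G) := by
  obtain ⟨Q, hQ⟩ := (hT.comap_subtype (K := M)).exists_le_sylow
  obtain ⟨m, hm⟩ := MulAction.exists_smul_eq M (P.subtype hPM) Q
  refine ⟨(m : G) • P, fun t ht => ?_, fun x hx => ?_, ?_⟩
  · have h1 : (⟨t, hTM ht⟩ : M) ∈ (Q : Subgroup M) := hQ ht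
    rw [← hm] at h1
    obtain ⟨w, hw, hwt⟩ := h1
    exact ⟨(w : G), hw, congrArg Subtype.val hwt⟩
  · obtain ⟨w, hw, rfl⟩ := hx
    exact mul_mem (mul_mem m.2 (hPM hw)) (inv_mem m.2)
  · show Thompson.zjay 0 ((P : Subgroup G).map (MulAut.conj (m : G)).toMonoidHom) = _
    rw [Thompson.zjay_map _ (MulAut.conj (m : G)).injective, Coprime.map_conj_eq (hM m.2)]

/-- The normalizer of the group of a central element of order `p` lies in that of `ZJ`. -/
theorem normalizer_central_le (h : Hyp G) (hp5 : 5 ≤ p) (P : Sylow p G)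
    (hP : Rank3 p (P : Subgroup G)) {z : G} (hz : z ∈ (P : Subgroup G)) (hzo : orderOf z = p)
    (hzc : ∀ x ∈ (P : Subgroup G), x * z = z * x) :
    normalizer (zpowers z : Set G) ≤ normalizer (Thompson.zjay 0 (P : Subgroup G) : Set G) := by
  have hp2 : p ≠ 2 := by omega
  have hz1 : z ≠ 1 := elem_ne_one hzo
  have hth : th p z = ⊥ := by
    obtain ⟨B, hBP, hB, hB3⟩ := hP
    exact h.core_eq_bot hp2
      (elemAb_sup hB (elemAb_zpowers (hzo ▸ pow_orderOf_eq_one z)) fun b hb w hw => by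
        obtain ⟨i, rfl⟩ := mem_zpowers_iff.mp hw
        exact ((show Commute b z from hzc b (hBP hb)).zpow_right i).eq)
      (hB3.trans (Nat.le_of_dvd Nat.card_pos (card_dvd_of_le le_sup_left)))
      (mem_sup_right (mem_zpowers z)) hz1
  have hzp : IsPGroup p (zpowers z) := P.isPGroup'.to_le (zpowers_le.mpr hz)
  have hne : zpowers z ≠ ⊥ := fun e => hz1 (zpowers_eq_bot.mp e)
  set N := normalizer (zpowers z : Set G) with hN
  have hNs : Group.IsSolvable N :=
    h.proper_solvable _ (h.normalizer_ne_top hne (h.ne_top_of_isPGroup hzp))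
  have hPN : H40.IsSylowOf p (P : Subgroup G) N := by
    refine ⟨le_normalizer_zpowers_of_commute hzc, P.isPGroup', ?_⟩
    have hPN' : (P : Subgroup G) ≤ N := le_normalizer_zpowers_of_commute hzc
    have h1 := (P.subtype hPN').card_eq_multiplicity
    rwa [Sylow.coe_subtype, Nat.card_congr (subgroupOfEquivOfLe hPN').toEquiv] at h1
  have hbot : Signalizer.core p N = ⊥ := by
    refine le_bot_iff.mp (hth ▸ ?_)
    rw [th_eq]
    set U := Signalizer.core p N with hU
    have hUz : U ≤ centralizer ({z} : Set G) := fun w hw => by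
      refine mem_centralizer_singleton_iff.mpr
        (commutatorElement_eq_one_iff_mul_comm.mp ?_)
      have hdisj : zpowers z ⊓ U = ⊥ := Cores.disjoint_of_isPGroup_of_coprime hzp
        ((hp.out.coprime_iff_not_dvd.mpr (Signalizer.not_dvd_card_core N)).symm)
      refine mem_bot.mp (hdisj.le (mem_inf.mpr ⟨?_, ?_⟩))
      · rw [commutatorElement_def]
        exact mul_mem (Coprime.conj_mem (Signalizer.core_le N hw) (mem_zpowers z))
          (inv_mem (mem_zpowers z))
      · rw [commutatorElement_def, mul_assoc w z w⁻¹, mul_assoc w]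
        exact mul_mem hw (Coprime.conj_mem (Signalizer.le_normalizer_core N
          (Subgroup.le_normalizer (mem_zpowers z))) (inv_mem hw))
    refine Signalizer.le_core hUz ?_ (Signalizer.not_dvd_card_core N)
    refine le_trans ?_ (Signalizer.le_normalizer_core N)
    refine fun w hw => centralizer_le_normalizer _ (mem_centralizer_iff.mpr fun v hv => ?_)
    obtain ⟨i, rfl⟩ := mem_zpowers_iff.mp hv
    exact ((show Commute z w from (mem_centralizer_singleton_iff.mp hw).symm).zpow_left i).eq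
  refine (Signalizer.le_core_sup_normalizer hp5 hNs hPN).trans ?_
  rw [hbot, bot_sup_eq]
  exact inf_le_right

/-- `N(ZJ(T))` lies in `M` for a `p`-subgroup `T` of `M` containing the center of a Sylow
subgroup of `M` above it. -/
theorem normalizer_zjay_le (h : Hyp G) (hp5 : 5 ≤ p) (P' : Sylow p G)
    (hP' : Rank3 p (P' : Subgroup G)) {M T : Subgroup G}
    (hM : normalizer (Thompson.zjay 0 (P' : Subgroup G) : Set G) ≤ M)
    (hTP : T ≤ (P' : Subgroup G))
    (hTc : ∀ x ∈ (P' : Subgroup G), (∀ w ∈ (P' : Subgroup G), w * x = x * w) → x ∈ T)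
    (hX : T ≠ (P' : Subgroup G) → ¬ IsCyclic ↥(Thompson.zjay 0 T) →
      normalizer (Thompson.zjay 0 T : Set G) ≤ M) :
    normalizer (Thompson.zjay 0 T : Set G) ≤ M := by
  by_cases heq : T = (P' : Subgroup G)
  · rwa [heq]
  by_cases hc : IsCyclic ↥(Thompson.zjay 0 T)
  · obtain ⟨z, hz, hzo, hzc⟩ := exists_central P'.isPGroup' (rank3_ne_bot hP')
    have hzT : z ∈ T := hTc z hz hzc
    have hzX : z ∈ Thompson.zjay 0 T := by
      rw [Thompson.zjay_eq_inf_centralizer]
      exact mem_inf.mpr ⟨hzT, mem_centralizer_iff.mpr fun w hw =>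
        hzc w (hTP (Thompson.jay_le hw))⟩
    exact (normalizer_le_zpowers hc hzX hzo).trans
      ((normalizer_central_le h hp5 P' hP' hz hzo hzc).trans hM)
  · exact hX heq hc

/-- The normalizers of noncyclic `p`-subgroups of `N(ZJ(P))` lie in it. -/
theorem normalizer_le_of_noncyclic (h : Hyp G) (hp5 : 5 ≤ p) (P : Sylow p G)
    (hP : Rank3 p (P : Subgroup G)) {M : Subgroup G}
    (hMeq : M = normalizer (Thompson.zjay 0 (P : Subgroup G) : Set G)) :
    ∀ n : ℕ, ∀ Q T : Subgroup G, ¬ IsCyclic Q → Q ≤ T →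
      H40.IsSylowOf p T (M ⊓ normalizer (Q : Set G)) → n = Nat.card G - Nat.card T →
      normalizer (Q : Set G) ≤ M := by
  have hp2 : p ≠ 2 := by omega
  intro n
  induction n using Nat.strong_induction_on with
  | _ n IH =>
    intro Q T hnc hQT hT hn
    obtain ⟨P', hTP, hP'M, hZ⟩ := zjay_sylow (hMeq ▸ Thompson.le_normalizer_zjay 0 _) hMeq.le
      hT.2.1 (hT.1.trans inf_le_left)
    have hP' := rank3_sylow (Q := P') hP
    have hM' : normalizer (Thompson.zjay 0 (P' : Subgroup G) : Set G) ≤ M :=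
      hMeq ▸ hZ ▸ le_rfl
    have hTc : ∀ x ∈ (P' : Subgroup G), (∀ w ∈ (P' : Subgroup G), w * x = x * w) → x ∈ T := by
      intro x hx hxc
      have hxQ : x ∈ normalizer (Q : Set G) := centralizer_le_normalizer _
        (mem_centralizer_iff.mpr fun q hq => hxc q (hTP (hQT hq)))
      rw [hT.eq_of_le (R := (P' : Subgroup G) ⊓ normalizer (Q : Set G))
        (P'.isPGroup'.to_le inf_le_left) (le_inf hTP (hT.1.trans inf_le_right))
        (le_inf (inf_le_left.trans hP'M) inf_le_right)]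
      exact mem_inf.mpr ⟨hx, hxQ⟩
    have hXle : normalizer (Thompson.zjay 0 T : Set G) ≤ M := by
      refine normalizer_zjay_le h hp5 P' hP' hM' hTP hTc fun hne hncX => ?_
      have hXT : Thompson.zjay 0 T ≤ T := Thompson.zjay_le
      obtain ⟨y, hyP, hyT, hyn⟩ := exists_normalizer_gt P'.isPGroup' (lt_of_le_of_ne hTP hne)
      set R := (P' : Subgroup G) ⊓ normalizer (T : Set G) with hR
      have hTR : T ≤ R := le_inf hTP Subgroup.le_normalizer
      have hRle : R ≤ M ⊓ normalizer (Thompson.zjay 0 T : Set G) :=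
        le_inf (inf_le_left.trans hP'M) (inf_le_right.trans
          ((Thompson.normalizer_le_normalizer_jay 0 T).trans
            (Thompson.normalizer_jay_le_normalizer_zjay 0 T)))
      obtain ⟨T', hRT', hT'⟩ := exists_sylowOf_ge hRle (P'.isPGroup'.to_le inf_le_left)
      have hlt : Nat.card T < Nat.card T' := by
        have hTT' : T < T' := lt_of_le_of_ne (hTR.trans hRT') fun he =>
          hyT (he ▸ hRT' (mem_inf.mpr ⟨hyP, hyn⟩))
        exact lt_of_lt_of_le (lt_mul_of_one_lt_left Nat.card_pos hp.out.one_lt)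
          (card_mul_le hT'.2.1 hTT')
      have hT'G : Nat.card T' ≤ Nat.card G := card_le_card_group _
      exact IH (Nat.card G - Nat.card T') (by omega) _ T' hncX
        (hXT.trans (hTR.trans hRT')) hT' rfl
    have hQp : IsPGroup p Q := hT.2.1.to_le hQT
    have hQne : Q ≠ ⊥ := fun e => hnc (e ▸ inferInstance)
    have hNs : Group.IsSolvable ↥(normalizer (Q : Set G)) :=
      h.proper_solvable _ (h.normalizer_ne_top hQne (h.ne_top_of_isPGroup hQp))
    have hTN : H40.IsSylowOf p T (normalizer (Q : Set G)) := isSylowOf_of_normalizer hT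
      (inf_le_left.trans (((Thompson.normalizer_le_normalizer_jay 0 T).trans
        (Thompson.normalizer_jay_le_normalizer_zjay 0 T)).trans hXle))
    refine (Signalizer.le_core_sup_normalizer hp5 hNs hTN).trans ?_
    rw [core_normalizer_eq_bot h hp2 P' hP' (hQT.trans hTP) hnc, bot_sup_eq]
    exact inf_le_right.trans hXle

end OddRank

open OddRank

/-- No prime at least five has rank three. -/
theorem Hyp.pRankLE_two (h : Hyp G) [Finite G] {p : ℕ} [Fact p.Prime] (hp : 5 ≤ p) :
    Cfsg.PRankLE p 2 G := by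
  intro A hAc hAe
  by_contra hA
  have hpp : p.Prime := Fact.out
  have hp2 : p ≠ 2 := by omega
  have hAel : Cfsg.IsElementaryAbelian p A := ⟨hAc, hAe⟩
  obtain ⟨k, hk⟩ := elem_card hAel
  have hA3 : p ^ 3 ≤ Nat.card A := by
    rw [hk, Nat.pow_le_pow_iff_right hpp.one_lt] at hA
    rw [hk]
    exact Nat.pow_le_pow_right hpp.pos (by omega)
  obtain ⟨P, hAP⟩ := (H47.isPGroup_of_elementaryAbelian hAel).exists_le_sylow
  have hP : Rank3 p (P : Subgroup G) := ⟨A, hAP, hAel, hA3⟩
  set M := normalizer (Thompson.zjay 0 (P : Subgroup G) : Set G) with hM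
  have hZp : IsPGroup p ↥(Thompson.zjay 0 (P : Subgroup G)) :=
    P.isPGroup'.to_le Thompson.zjay_le
  have hMtop : M ≠ ⊤ := h.normalizer_ne_top
    (Thompson.zjay_ne_bot P.isPGroup' (rank3_ne_bot hP) (Or.inl rfl)) (h.ne_top_of_isPGroup hZp)
  have hPM : (P : Subgroup G) ≤ M := Thompson.le_normalizer_zjay 0 _
  have hnorm : ∀ R : Subgroup G, IsPGroup p R → R ≤ M → ¬ IsCyclic R →
      normalizer (R : Set G) ≤ M := by
    intro R hR hRM hnc
    obtain ⟨T, hRT, hT⟩ := exists_sylowOf_ge (le_inf hRM Subgroup.le_normalizer) hR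
    exact normalizer_le_of_noncyclic h hp P hP rfl _ R T hnc hRT hT rfl
  obtain ⟨E, hEP, hEn, hE, hEc⟩ := exists_plane hp2 P.isPGroup' hP
  obtain ⟨B, -, hB, hB3, hEB, -⟩ := exists_join_plane P.isPGroup' hEP hEn hE hEc hAP hAel hA3
  haveI : (E.subgroupOf (P : Subgroup G)).Normal := normal_subgroupOf_of_le_normalizer hEn
  obtain ⟨z, hzE, hzZ, hzo⟩ := PGroups.exists_mem_center_orderOf_eq P.isPGroup'
    (E.subgroupOf (P : Subgroup G)) fun hbot =>
      ne_bot_of_sq_le hEc.ge (by
        rw [← map_subgroupOf_eq_of_le hEP, hbot, Subgroup.map_bot])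
  have hzo' : orderOf (z : G) = p := by rw [Subgroup.orderOf_coe, hzo]
  have hzc : ∀ x ∈ (P : Subgroup G), x * (z : G) = z * x := fun x hx =>
    congrArg Subtype.val (Subgroup.mem_center_iff.mp hzZ ⟨x, hx⟩)
  refine false_of_core h hMtop hE hEc (hEP.trans hPM) hzE (elem_ne_one hzo') (fun e he he1 => ?_)
    (normalizer_central_le h hp P hP z.2 hzo' hzc) hnorm
  set C := centralizer ({e} : Set G) with hC
  have hEC : E ≤ C := fun a ha => mem_centralizer_singleton_iff.mpr (elem_commute hE ha he)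
  obtain ⟨T, hET, hT⟩ := exists_sylowOf_ge (le_inf (hEP.trans hPM) hEC)
    (H47.isPGroup_of_elementaryAbelian hE)
  have hTnc : ¬ IsCyclic T := fun hc => by
    haveI := hc
    exact Fusion.Signalizer.not_isCyclic_of_elementary hE hEc.ge
      (isCyclic_of_injective (inclusion hET) (inclusion_injective _))
  have hTC : H40.IsSylowOf p T C :=
    isSylowOf_of_normalizer hT (inf_le_left.trans (hnorm T hT.2.1 (hT.1.trans inf_le_left) hTnc))
  obtain ⟨P', hTP, hP'M, hZ⟩ := zjay_sylow hPM le_rfl hT.2.1 (hT.1.trans inf_le_left)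
  have hX : normalizer (Thompson.zjay 0 T : Set G) ≤ M := by
    refine normalizer_zjay_le h hp P' (rank3_sylow hP) (hM ▸ hZ ▸ le_rfl) hTP
      (fun x hx hxc => ?_) fun _ hncX =>
      hnorm _ (hT.2.1.to_le Thompson.zjay_le)
        ((Thompson.zjay_le (P := T)).trans (hT.1.trans inf_le_left)) hncX
    rw [hT.eq_of_le (R := (P' : Subgroup G) ⊓ C) (P'.isPGroup'.to_le inf_le_left)
      (le_inf hTP (hT.1.trans inf_le_right)) (le_inf (inf_le_left.trans hP'M) inf_le_right)]
    exact mem_inf.mpr ⟨hx, mem_centralizer_singleton_iff.mpr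
      (hxc e (hTP (hET he))).symm⟩
  refine (Signalizer.le_core_sup_normalizer hp (h.centralizer_solvable he1) hTC).trans ?_
  rw [show Signalizer.core p C = ⊥ from h.core_eq_bot hp2 hB hB3 (hEB he) he1, bot_sup_eq]
  exact inf_le_right.trans hX

end Cfsg.Agent.H63.TwoGen
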