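import Cfsg.Agent.H63.TwoGen.Classes
import Cfsg.Agent.S1895
import Cfsg.Agent.S1443
import Cfsg.Agent.S0016
import Cfsg.Agent.H40.Factor
import Cfsg.Agent.H48.SylowCore
import Cfsg.Agent.H71.HallHigmanExact
import Cfsg.Agent.OddOrder.BG4.RankTwoGroup
import Cfsg.Agent.H33.QuaternionAut

/-!
# Solvable groups of `p`-rank at most two, `p ≥ 5`

`p`-length one, with the consequences used for Flavell's theorem.
-/

set_option autoImplicit false
set_option linter.style.haveILetI false
open Cfsg

namespace Cfsg.Agent.H63.TwoGen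

open Subgroup
open Cfsg.Agent.H47 (coreOf)
open scoped IsMulCommutative

set_option maxHeartbeats 600000

universe u

section Linear

variable {k V L : Type*} [Field k] [AddCommGroup V] [Module k V] [FiniteDimensional k V]
  [Group L] [Finite L] {p : ℕ} [Fact p.Prime]

/-- Two commuting square-zero endomorphisms in dimension two annihilate each other. -/
theorem mul_eq_zero_of_dim_two (hdim : Module.finrank k V ≤ 2) {A B : Module.End k V}
    (hA0 : A ≠ 0) (hA : A * A = 0) (hB : B * B = 0) (hAB : A * B = B * A) :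
    B * A = 0 := by
  have hrk : LinearMap.range A ≤ LinearMap.ker A := by
    rintro _ ⟨v, rfl⟩
    exact LinearMap.congr_fun hA v
  have h1 := A.finrank_range_add_finrank_ker
  have h2 := Submodule.finrank_mono hrk
  obtain ⟨v, hv⟩ : ∃ v, A v ≠ 0 := by
    by_contra h
    push Not at h
    exact hA0 (LinearMap.ext h)
  have h3 : Module.finrank k (LinearMap.range A) = 1 := by
    have : Nontrivial (LinearMap.range A) :=
      ⟨⟨⟨A v, ⟨v, rfl⟩⟩, 0, fun e => hv (congrArg Subtype.val e)⟩⟩
    have := Module.finrank_pos (R := k) (M := LinearMap.range A)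
    omega
  have hv' : (⟨A v, ⟨v, rfl⟩⟩ : LinearMap.range A) ≠ 0 := fun e => hv (congrArg Subtype.val e)
  obtain ⟨c, hc⟩ := (finrank_eq_one_iff_of_nonzero' _ hv').mp h3
    ⟨A (B v), ⟨B v, rfl⟩⟩
  have hc' : B (A v) = c • A v := by
    have := congrArg Subtype.val hc
    simp only [SetLike.val_smul] at this
    rw [this]
    exact (LinearMap.congr_fun hAB v).symm
  have hc0 : c = 0 := by
    have h4 : c • c • A v = 0 := by
      rw [← hc', ← map_smul, ← hc']
      exact LinearMap.congr_fun hB (A v)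
    rw [smul_smul, smul_eq_zero] at h4
    exact mul_self_eq_zero.mp (h4.resolve_right hv)
  ext w
  obtain ⟨d, hd⟩ := (finrank_eq_one_iff_of_nonzero' _ hv').mp h3 ⟨A w, ⟨w, rfl⟩⟩
  have hd' := congrArg Subtype.val hd
  simp only [SetLike.val_smul] at hd'
  show B (A w) = 0
  rw [← hd', map_smul, hc', hc0, zero_smul, smul_zero]

/-- In a faithful representation of degree at most two in characteristic `p` of a solvable
group, `p ≥ 5`, every `p`-element lies in `O_p`. -/
theorem mem_pCore_of_degree_two [IsAlgClosed k] [Group.IsSolvable L] (hp5 : 5 ≤ p) (hpk : (p : k) = 0)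
    (ρ : L →* Module.End k V) (hinj : Function.Injective ρ)
    (hdim : Module.finrank k V ≤ 2) {x : L} {n : ℕ} (hx : x ^ p ^ n = 1) :
    x ∈ Cfsg.pCore p L := by
  have hp : p.Prime := Fact.out
  have sq : ∀ {y : L} {m : ℕ}, y ^ p ^ m = 1 → (ρ y - 1) * (ρ y - 1) = 0 := by
    intro y m hy
    have hnil : IsNilpotent (ρ y - 1) := ⟨p ^ m, by
      rw [H71.Exact.sub_one_pow_char hpk, ← map_pow, hy, map_one, sub_self]⟩
    have h0 := LinearMap.aeval_self_charpoly (ρ y - 1)
    rw [hnil.charpoly_eq_X_pow_finrank, map_pow, Polynomial.aeval_X] at h0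
    have := pow_eq_zero_of_le hdim h0
    rwa [pow_two] at this
  have pw : ∀ {y : L} {m : ℕ}, y ^ p ^ m = 1 → y ^ p = 1 := by
    intro y m hy
    refine hinj ?_
    have h := H71.Exact.sub_one_pow_char hpk (ρ y) 1
    rw [pow_one] at h
    have h0 : (ρ y - 1) ^ p = 0 := pow_eq_zero_of_le (by omega) ((pow_two _).trans (sq hy))
    rw [h0] at h
    rw [map_pow, map_one]
    exact sub_eq_zero.mp h.symm
  have hxp := pw hx
  -- the `p`-elements commuting with a non-trivial one have the same line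
  have comm : ∀ (P : Sylow p L) (a b : L), a ∈ (P : Subgroup L) → b ∈ (P : Subgroup L) →
      a * b = b * a := by
    intro P a b ha hb
    rcases eq_or_ne (P : Subgroup L) ⊥ with hbot | hbot
    · rw [hbot, mem_bot] at ha hb
      rw [ha, hb]
    haveI : Nontrivial (P : Subgroup L) := (Subgroup.nontrivial_iff_ne_bot _).mpr hbot
    haveI := P.isPGroup'.center_nontrivial
    obtain ⟨⟨⟨z, hzP⟩, hz⟩, hz1⟩ := exists_ne (1 : center (P : Subgroup L))
    obtain ⟨mz, hmz⟩ := P.isPGroup' ⟨z, hzP⟩
    have hz0 : ρ z - 1 ≠ 0 := fun h => hz1 (Subtype.ext (Subtype.ext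
      (hinj (show ρ z = ρ 1 by rw [map_one]; exact sub_eq_zero.mp h))))
    have hzsq := sq (congrArg Subtype.val hmz : z ^ p ^ mz = 1)
    have key : ∀ c ∈ (P : Subgroup L), (ρ c - 1) * (ρ z - 1) = 0 := by
      intro c hc
      obtain ⟨m, hm⟩ := P.isPGroup' ⟨c, hc⟩
      refine mul_eq_zero_of_dim_two hdim hz0 hzsq (sq (congrArg Subtype.val hm : c ^ p ^ m = 1)) ?_
      have hcz : c * z = z * c :=
        congrArg Subtype.val (Subgroup.mem_center_iff.mp hz ⟨c, hc⟩)
      have : ρ c * ρ z = ρ z * ρ c := by rw [← map_mul, ← map_mul, hcz]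
      simp only [mul_sub, sub_mul, one_mul, mul_one, this]
      abel
    -- kernels and images are the line of `z`
    have hker : ∀ c ∈ (P : Subgroup L), LinearMap.range (ρ z - 1) ≤ LinearMap.ker (ρ c - 1) := by
      rintro c hc _ ⟨v, rfl⟩
      exact LinearMap.congr_fun (key c hc) v
    have hann : ∀ c ∈ (P : Subgroup L), ∀ d ∈ (P : Subgroup L), (ρ c - 1) * (ρ d - 1) = 0 := by
      intro c hc d hd
      ext v
      have h1 := (ρ z - 1).finrank_range_add_finrank_ker
      have h2 : 1 ≤ Module.finrank k (LinearMap.range (ρ z - 1)) := by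
        refine Nat.one_le_iff_ne_zero.mpr fun h => hz0 ?_
        exact LinearMap.range_eq_bot.mp (Submodule.finrank_eq_zero.mp h)
      obtain ⟨m, hm⟩ := P.isPGroup' ⟨d, hd⟩
      have hdsq := sq (congrArg Subtype.val hm : d ^ p ^ m = 1)
      have hr : LinearMap.range (ρ d - 1) ≤ LinearMap.ker (ρ d - 1) := by
        rintro _ ⟨w, rfl⟩
        exact LinearMap.congr_fun hdsq w
      show (ρ c - 1) ((ρ d - 1) v) = 0
      by_cases h0 : ρ d - 1 = 0
      · rw [h0, LinearMap.zero_apply, map_zero]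
      have h3 := (ρ d - 1).finrank_range_add_finrank_ker
      have h4 := Submodule.finrank_mono hr
      have h5 := Submodule.finrank_mono (hker d hd)
      have h7 : 1 ≤ Module.finrank k (LinearMap.range (ρ d - 1)) := by
        refine Nat.one_le_iff_ne_zero.mpr fun h => h0 ?_
        exact LinearMap.range_eq_bot.mp (Submodule.finrank_eq_zero.mp h)
      have h6 : LinearMap.ker (ρ d - 1) = LinearMap.range (ρ z - 1) :=
        (Submodule.eq_of_le_of_finrank_le (hker d hd) (by omega)).symm
      exact hker c hc (h6 ▸ hr ⟨v, rfl⟩)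
    refine hinj ?_
    rw [map_mul, map_mul]
    have e := (hann a ha b hb).trans (hann b hb a ha).symm
    simp only [mul_sub, sub_mul, one_mul, mul_one] at e
    linear_combination (norm := abel) e
  have hxg : IsPGroup p (zpowers x) := by
    obtain ⟨j, -, hj⟩ := (Nat.dvd_prime_pow hp).mp (orderOf_dvd_of_pow_eq_one hx)
    exact IsPGroup.of_card (n := j) ((Nat.card_zpowers x).trans hj)
  obtain ⟨P, hP⟩ := hxg.exists_le_sylow
  have hxP := hP (mem_zpowers x)
  have hall : ∀ (q : ℕ), q.Prime → Cfsg.pCore q L ≤ centralizer ({x} : Set L) := by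
    intro q hq w hw
    haveI := Fact.mk hq
    rcases eq_or_ne q p with rfl | hqp
    · exact mem_centralizer_singleton_iff.mpr (comm P _ _ (Cores.pCore_le_sylow P hw) hxP)
    · have hqk : (q : k) ≠ 0 := by
        intro h
        haveI : CharP k p := (CharP.charP_iff_prime_eq_zero hp).mpr hpk
        exact hqp ((Nat.prime_dvd_prime_iff_eq hp hq).mp ((CharP.cast_eq_zero_iff k p q).mp h)).symm
      have hB := H71.Exact.hall_higman_B_exact (ρ := ρ) (s := q) (p := p) (n := 1) hqp hpk hqk hinj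
        one_pos (Cfsg.pCore q L) Cores.pCore_isPGroup x (H48.mem_normalizer_of_normal x)
        (by rw [pow_one]; exact hxp) (r := 2) ((pow_two _).trans (sq hx)) (by rw [pow_one]; omega)
        (Or.inl fun n₀ m h0 h1 _ he => by
          have hn₀ : n₀ = 1 := by omega
          subst hn₀
          rw [pow_one] at he
          rw [Nat.sub_self, pow_zero, one_mul]
          omega)
      rw [Nat.sub_self, pow_zero, pow_one] at hB
      exact mem_centralizer_singleton_iff.mpr
        (mem_centralizer_iff.mp (hB (mem_zpowers x)) w hw)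
  have hxF : x ∈ Cfsg.fittingSubgroup L := by
    refine Cores.centralizer_fittingSubgroup_le ?_
    have hle : Cfsg.fittingSubgroup L ≤ centralizer ({x} : Set L) := by
      rw [Cores.iSup_pCore_eq_fittingSubgroup]
      exact iSup_le fun q => hall q q.2
    exact mem_centralizer_iff.mpr fun w hw => mem_centralizer_singleton_iff.mp (hle hw)
  rw [Cores.iSup_pCore_eq_fittingSubgroup] at hxF
  exact Cores.le_pCore_of_le_sup (A := zpowers x) hxg
    ((zpowers_le.mpr hxF).trans (Cores.iSup_pCore_le_sup p)) (mem_zpowers x)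

end Linear

section Structure

variable {p : ℕ} [Fact p.Prime]

/-- A solvable group of `p`-rank two, `p ≥ 5`, with trivial `p'`-core has all its `p`-subgroups
in `O_p`. -/
theorem le_pCore_of_rankTwo {X : Type u} [Group X] [Finite X] [Group.IsSolvable X] (hp : 5 ≤ p)
    (hr : Cfsg.PRankLE p 2 X) (h0 : Cfsg.pPrimeCore p X = ⊥) {A : Subgroup X}
    (hA : IsPGroup p A) : A ≤ Cfsg.pCore p X := by
  have hp2 : p ≠ 2 := by omega
  set R := Cfsg.pCore p X with hR
  have hRp : IsPGroup p R := Cores.pCore_isPGroup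
  haveI hRn : R.Normal := H58.pCore_normal
  obtain ⟨Y, _, _, V, ψ, hVn, hVc, hexp, hcard, hC⟩ :=
    OddOrder.BG4.exists_small_action hp2 hRp (OddOrder.BG4.pRankLE_subgroup hr R) (A := ⊤)
      (normalizer_eq_top (H := R)).ge
  set ρ := (Coprime.LinRep.rep V p).comp (ψ.comp
    (Subgroup.topEquiv : (⊤ : Subgroup X) ≃* X).symm.toMonoidHom) with hρ
  set ρu := ρ.toHomUnits with hρu
  have hN : ∀ g ∈ ρu.ker, ∃ k : ℕ, g ^ p ^ k = 1 := by
    intro g hg
    obtain ⟨k, hk⟩ := Fusion.exists_pow_coprime (p := p) g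
    refine ⟨k, ?_⟩
    have h1 : ρ (g ^ p ^ k) = 1 :=
      congrArg Units.val (MonoidHom.mem_ker.mp (ρu.ker.pow_mem hg (p ^ k)))
    have h2 : g ^ p ^ k ∈ R := Cores.centralizer_pCore_le Cores.isPSolvable_of_isSolvable h0
      (hC ⟨g ^ p ^ k, mem_top _⟩ (by rwa [Subgroup.orderOf_mk])
        ((Coprime.LinRep.rep_eq_one_iff V p hexp _).mp h1))
    obtain ⟨i, hi⟩ := IsPGroup.iff_orderOf.mp hRp ⟨_, h2⟩
    rw [Subgroup.orderOf_mk] at hi
    rw [hi] at hk
    rw [← orderOf_eq_one_iff, hi]
    exact Nat.eq_one_of_dvd_coprimes (hk.pow_right i) dvd_rfl dvd_rfl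
  have hNp : IsPGroup p ρu.ker := fun ⟨g, hg⟩ => (hN g hg).imp fun k hk => Subtype.ext hk
  haveI : Group.IsSolvable (X ⧸ ρu.ker) :=
    Group.isSolvable_of_surjective (QuotientGroup.mk'_surjective ρu.ker)
  haveI : CharP (Coprime.LinRep.Coeff p) p :=
    charP_of_injective_algebraMap (algebraMap (ZMod p) (Coprime.LinRep.Coeff p)).injective p
  have hinj : Function.Injective ((Units.coeHom _).comp (QuotientGroup.kerLift ρu)) :=
    Units.val_injective.comp (QuotientGroup.kerLift_injective ρu)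
  set J := (Cfsg.pCore p (X ⧸ ρu.ker)).comap (QuotientGroup.mk' ρu.ker) with hJ
  have hJp : IsPGroup p J := Cores.pCore_isPGroup.comap_of_ker_isPGroup _
    (by rwa [QuotientGroup.ker_mk'])
  haveI : (Cfsg.pCore p (X ⧸ ρu.ker)).Normal := H58.pCore_normal
  haveI : J.Normal := inferInstance
  intro a ha
  refine Cores.le_pCore hJp ?_
  obtain ⟨n, hn⟩ := hA ⟨a, ha⟩
  refine mem_pCore_of_degree_two (n := n) hp (CharP.cast_eq_zero _ p) _ hinj
    (OddOrder.BG4.finrank_sp_le V p hexp hcard) ?_
  rw [QuotientGroup.mk'_apply, ← QuotientGroup.mk_pow,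
    show a ^ p ^ n = 1 from congrArg Subtype.val hn, QuotientGroup.mk_one]

variable {G : Type u} [Group G] [Finite G] (h : Hyp G) (hp : 5 ≤ p) (hr : Cfsg.PRankLE p 2 G)

include h hp hr

/-- Proper subgroups have `p`-length one. -/
theorem le_pPrimePCore_of_rankTwo {K : Subgroup G} (hK : K ≠ ⊤) {A : Subgroup K}
    (hA : IsPGroup p A) : A ≤ Cfsg.pPrimePCore p K := by
  haveI := h.proper_solvable K hK
  haveI : Group.IsSolvable (K ⧸ Cfsg.pPrimeCore p K) :=
    Group.isSolvable_of_surjective (QuotientGroup.mk'_surjective (Cfsg.pPrimeCore p K))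
  exact map_le_iff_le_comap.mp (le_pCore_of_rankTwo hp
    (S1895.pRankLE_quotient_core (OddOrder.BG4.pRankLE_subgroup hr K))
    Cores.pPrimeCore_quotient_pPrimeCore (hA.map (QuotientGroup.mk' _)))

/-- Frattini for a proper subgroup. -/
theorem sup_normalizer {K : Subgroup G} (hK : K ≠ ⊤) {R : Subgroup G}
    (hR : H40.IsSylowOf p R K) : K ≤ coreOf p K ⊔ (K ⊓ normalizer (R : Set G)) := by
  have hcard : Nat.card (R.subgroupOf K) = p ^ (Nat.card K).factorization p := by
    rw [Nat.card_congr (subgroupOfEquivOfLe hR.1).toEquiv, hR.2.2]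
  let P : Sylow p K := Sylow.ofCard (R.subgroupOf K) hcard
  have hP : (P : Subgroup K) = R.subgroupOf K := Sylow.coe_ofCard _ _
  have hcore : H48.sylowCore P = R.subgroupOf K :=
    (inf_eq_left.mpr (le_pPrimePCore_of_rankTwo h hp hr hK P.isPGroup')).trans hP
  intro g hg
  obtain ⟨d, hd, n, hn, hdn⟩ := H48.exists_mul_normalizer P (⟨g, hg⟩ : K)
  rw [hcore] at hn
  have hg' : g = (d : G) * n := congrArg Subtype.val hdn
  rw [hg']
  refine mul_mem (mem_sup_left ⟨d, hd, rfl⟩)
    (mem_sup_right ⟨n.2, mem_normalizer_iff.mpr fun x => ⟨fun hx => ?_, fun hx => ?_⟩⟩)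
  · exact (mem_normalizer_iff.mp hn ⟨x, hR.1 hx⟩).mp hx
  · have hxK : x ∈ K := by
      have := K.mul_mem (K.mul_mem (K.inv_mem n.2) (hR.1 hx)) n.2
      simpa [mul_assoc] using this
    exact (mem_normalizer_iff.mp hn ⟨x, hxK⟩).mpr hx

/-- A `p'`-subgroup of a proper subgroup `K` normalised by a plane `E ≤ K` lies in `O_{p'}(K)`. -/
theorem le_coreOf_of_plane {E : Subgroup G} (hE : Cfsg.IsElementaryAbelian p E)
    (hEc : Nat.card E = p ^ 2) {K : Subgroup G} (hK : K ≠ ⊤) (hEK : E ≤ K) {U : Subgroup G}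
    (hUK : U ≤ K) (hU : (Nat.card U).Coprime p) (hEU : E ≤ normalizer (U : Set G)) :
    U ≤ coreOf p K := by
  haveI := h.proper_solvable K hK
  set O := Cfsg.pPrimeCore p K with hO
  set f := QuotientGroup.mk' O with hf
  haveI : Group.IsSolvable (K ⧸ O) := Group.isSolvable_of_surjective (QuotientGroup.mk'_surjective O)
  set T := Cfsg.pCore p (K ⧸ O) with hT
  have hTp : IsPGroup p T := Cores.pCore_isPGroup
  haveI : T.Normal := H58.pCore_normal
  have hr' : Cfsg.PRankLE p 2 (K ⧸ O) :=
    S1895.pRankLE_quotient_core (OddOrder.BG4.pRankLE_subgroup hr K)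
  set E' := E.subgroupOf K with hE'
  set U' := U.subgroupOf K with hU'
  have hEp : IsPGroup p E := fun e => ⟨1, Subtype.ext (by simpa using hE.2 e e.2)⟩
  have hE'p : IsPGroup p E' := hEp.comap_of_injective K.subtype K.subtype_injective
  set Eb := E'.map f with hEb
  set Ub := U'.map f with hUb
  have hEbT : Eb ≤ T := map_le_iff_le_comap.mpr (le_pPrimePCore_of_rankTwo h hp hr hK hE'p)
  have hEbc : Nat.card Eb = p ^ 2 := by
    have hd := Cores.disjoint_of_isPGroup_of_coprime hE'p
      (Cores.coprime_card_pPrimeCore (p := p) (G := K))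
    rw [hEb, ← relIndex_ker, QuotientGroup.ker_mk', ← inf_relIndex_right, inf_comm,
      hd, relIndex_bot_left, Nat.card_congr (subgroupOfEquivOfLe hEK).toEquiv, hEc]
  have hEbe : Cfsg.IsElementaryAbelian p Eb := by
    refine ⟨⟨⟨?_⟩⟩, ?_⟩
    · rintro ⟨_, a, ha, rfl⟩ ⟨_, b, hb, rfl⟩
      haveI := hE.1
      refine Subtype.ext ?_
      have hab : a * b = b * a := by
        have := congrArg Subtype.val (mul_comm' (⟨(a : G), ha⟩ : E) ⟨(b : G), hb⟩)
        exact Subtype.ext this
      show f a * f b = f b * f a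
      rw [← map_mul, hab, map_mul]
    · rintro _ ⟨a, ha, rfl⟩
      rw [← map_pow, show a ^ p = 1 from Subtype.ext (by simpa using hE.2 _ ha), map_one]
  have hUbc : (Nat.card Ub).Coprime p := by
    refine Nat.Coprime.coprime_dvd_left ?_ hU
    exact (card_map_dvd (H := U') f).trans (card_comap_dvd_of_injective U K.subtype K.subtype_injective)
  have hEbUb : Eb ≤ normalizer (Ub : Set (K ⧸ O)) := by
    refine le_trans ?_ (le_normalizer_map f)
    refine map_mono fun e he => mem_normalizer_iff.mpr fun x => ?_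
    exact mem_normalizer_iff.mp (hEU he) (x : G)
  have hUT : Ub ⊓ T = ⊥ := by
    rw [inf_comm]; exact Cores.disjoint_of_isPGroup_of_coprime hTp hUbc
  have hcomm : ∀ u ∈ Ub, ∀ e ∈ Eb, u * e = e * u := by
    intro u hu e he
    have h1 : u * e * u⁻¹ * e⁻¹ ∈ Ub := by
      have := Ub.mul_mem hu ((mem_normalizer_iff.mp (hEbUb he) u⁻¹).mp (Ub.inv_mem hu))
      simpa [mul_assoc] using this
    have h2 : u * e * u⁻¹ * e⁻¹ ∈ T :=
      T.mul_mem (Subgroup.Normal.conj_mem inferInstance e (hEbT he) u) (T.inv_mem (hEbT he))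
    have h3 : u * e * u⁻¹ * e⁻¹ ∈ Ub ⊓ T := ⟨h1, h2⟩
    rw [hUT, mem_bot, mul_inv_eq_one, mul_inv_eq_iff_eq_mul] at h3
    exact h3
  have hfix : ∀ y ∈ (T ⊓ centralizer (Eb : Set (K ⧸ O))), orderOf y = p →
      Ub ≤ centralizer ({y} : Set (K ⧸ O)) := by
    rintro y ⟨hyT, hyC⟩ hy
    set B := Eb ⊔ zpowers y with hB
    haveI := hEbe.1
    have hEC : Eb ≤ centralizer (Eb : Set (K ⧸ O)) := le_centralizer Eb
    have hBC1 : B ≤ centralizer (Eb : Set (K ⧸ O)) := sup_le hEC (zpowers_le.mpr hyC)
    have hBC2 : B ≤ centralizer (zpowers y : Set (K ⧸ O)) :=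
      sup_le (le_centralizer_iff.mp (zpowers_le.mpr hyC)) (le_centralizer (zpowers y))
    have hBB : B ≤ centralizer (B : Set (K ⧸ O)) :=
      le_centralizer_iff.mp (sup_le (le_centralizer_iff.mp hBC1) (le_centralizer_iff.mp hBC2))
    have hBcomm : IsMulCommutative B :=
      ⟨⟨fun a b => Subtype.ext (mem_centralizer_iff.mp (hBB b.2) a a.2)⟩⟩
    let D : Subgroup (K ⧸ O) :=
      { carrier := {z | z ∈ B ∧ z ^ p = 1}
        one_mem' := ⟨B.one_mem, one_pow _⟩
        mul_mem' := fun {a b} ha hb => ⟨B.mul_mem ha.1 hb.1, by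
          rw [Commute.mul_pow (mem_centralizer_iff.mp (hBB hb.1) a ha.1), ha.2, hb.2, one_mul]⟩
        inv_mem' := fun {a} ha => ⟨B.inv_mem ha.1, by rw [inv_pow, ha.2, inv_one]⟩ }
    have hBD : B ≤ D := sup_le (fun e he => ⟨mem_sup_left he, hEbe.2 e he⟩)
      (zpowers_le.mpr ⟨mem_sup_right (mem_zpowers y), orderOf_dvd_iff_pow_eq_one.mp hy.dvd⟩)
    have hBc := hr' B hBcomm fun a ha => (hBD ha).2
    have hyE : y ∈ Eb := by
      rw [eq_of_le_of_card_ge (le_sup_left : Eb ≤ B) (hEbc ▸ hBc)]
      exact mem_sup_right (mem_zpowers y)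
    exact fun u hu => mem_centralizer_singleton_iff.mpr (hcomm u hu y hyE)
  have hUC := S1443.result p (by omega) T Eb Ub hTp hEbT hEbe
    (fun u _ => H48.mem_normalizer_of_normal u) hUbc hfix
  have hUle : Ub ≤ Ub ⊓ T := le_inf le_rfl (hUC.trans (Cores.centralizer_pCore_le
    Cores.isPSolvable_of_isSolvable Cores.pPrimeCore_quotient_pPrimeCore))
  rw [hUT, hUb, le_bot_iff, Subgroup.map_eq_bot_iff, QuotientGroup.ker_mk'] at hUle
  rw [← map_subgroupOf_eq_of_le hUK]
  exact map_mono hUle

/-- Invariant `q`-subgroups for a plane lie in the cores. -/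
theorem invInCore {E : Subgroup G} (hE : Cfsg.IsElementaryAbelian p E)
    (hEc : Nat.card E = p ^ 2) {q : ℕ} [Fact q.Prime] (hqp : q ≠ p) : InvInCore p E q :=
  fun K hK hEK U hUK hU => le_coreOf_of_plane h hp hr hE hEc hK hEK hUK (by
    obtain ⟨k, hk⟩ := IsPGroup.iff_card.mp hU.1
    rw [hk]
    exact ((Nat.coprime_primes Fact.out Fact.out).mpr hqp).pow_left k) hU.2

end Structure

section Small

variable {G : Type u} [Group G] [Finite G] {p : ℕ}

/-- An element of prime order `p` centralises every `q`-group of rank two it normalises, for odd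
`q < p`. -/
theorem centralizes_of_rank_two (hp : p.Prime) {q : ℕ} [Fact q.Prime] (hq2 : q ≠ 2) (hqp : q < p)
    {Q : Subgroup G} (hQ : IsPGroup q Q) (hr : Cfsg.PRankLE q 2 Q) {x : G} (hx : orderOf x = p)
    (hxQ : x ∈ normalizer (Q : Set G)) : Q ≤ centralizer ({x} : Set G) := by
  by_contra hno
  have hq : q.Prime := Fact.out
  have hfix : x ∉ centralizer (Q : Set G) := fun hc => hno fun w hw =>
    mem_centralizer_singleton_iff.mpr (mem_centralizer_iff.mp hc w hw)
  have h2 := hq.two_le
  rcases OddOrder.BG4.prime_dvd_of_small_action hq2 hQ hr hxQ hp hqp.ne' (k := 1)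
    (by rw [pow_one]; exact hx) hfix with hd | hd
  · have := Nat.le_of_dvd (by omega) hd
    omega
  · have := Nat.le_of_dvd (by omega) hd
    have e : p = q + 1 := by omega
    have hqo := hq.eq_two_or_odd.resolve_left hq2
    rcases hp.eq_two_or_odd with h' | h' <;> omega

/-- A 2-group moved by an element of prime order at least five contains a four-group. -/
theorem two_group_has_four (hp : p.Prime) (hp5 : 5 ≤ p) {Y : Subgroup G} (hY : IsPGroup 2 Y)
    {x : G} (hx : orderOf x = p) (hxY : x ∈ normalizer (Y : Set G))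
    (hmove : ¬ Y ≤ centralizer ({x} : Set G)) :
    ∃ U ≤ Y, Cfsg.IsElementaryAbelian 2 U ∧ Nat.card U = 4 := by
  classical
  by_contra hno
  have hne : Nontrivial Y := by
    rw [Subgroup.nontrivial_iff_ne_bot]
    rintro rfl
    exact hmove bot_le
  haveI := hY.center_nontrivial
  obtain ⟨z, hz⟩ := exists_prime_orderOf_dvd_card' (G := center Y) 2 (by
    obtain ⟨n, hn⟩ := IsPGroup.iff_card.mp (hY.to_subgroup (center Y))
    have h1 : 1 < Nat.card (center Y) := Finite.one_lt_card
    rw [hn] at h1 ⊢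
    exact dvd_pow_self 2 fun e => by simp [e] at h1)
  have huniq : ∀ t : Y, orderOf t = 2 → t = z := by
    intro t ht
    by_contra htz
    apply hno
    set a : G := ((z : Y) : G) with ha
    set b : G := (t : G) with hb
    have hab : a * b = b * a := congrArg Subtype.val (Subgroup.mem_center_iff.mp z.2 t).symm
    have ha2 : a * a = 1 := by
      have := pow_orderOf_eq_one z
      rw [hz, pow_two] at this
      exact congrArg (fun w : center Y => ((w : Y) : G)) this
    have hb2 : b * b = 1 := by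
      have := pow_orderOf_eq_one t
      rw [ht, pow_two] at this
      exact congrArg Subtype.val this
    have ha1 : a ≠ 1 := fun e => by
      rw [show z = 1 from Subtype.ext (Subtype.ext e), orderOf_one] at hz
      exact absurd hz (by norm_num)
    have hb1 : b ≠ 1 := fun e => by
      rw [show t = 1 from Subtype.ext e, orderOf_one] at ht
      exact absurd ht (by norm_num)
    have hab1 : a ≠ b := fun e => htz (Subtype.ext e.symm)
    have haa : ∀ w : G, a * (a * w) = w := fun w => by rw [← mul_assoc, ha2, one_mul]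
    have hbb : ∀ w : G, b * (b * w) = w := fun w => by rw [← mul_assoc, hb2, one_mul]
    have hba : ∀ w : G, b * (a * w) = a * (b * w) := fun w => by
      rw [← mul_assoc, ← hab, mul_assoc]
    have hai : a⁻¹ = a := inv_eq_of_mul_eq_one_right ha2
    have hbi : b⁻¹ = b := inv_eq_of_mul_eq_one_right hb2
    let U : Subgroup G :=
      { carrier := {1, a, b, a * b}
        one_mem' := by simp
        mul_mem' := by
          rintro u v (rfl | rfl | rfl | rfl) (rfl | rfl | rfl | rfl) <;>
            simp [ha2, hb2, haa, hbb, hba, mul_assoc, hab.symm]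
        inv_mem' := by
          rintro u (rfl | rfl | rfl | rfl) <;>
            simp [hai, hbi, hab.symm] }
    refine ⟨U, ?_, ⟨⟨⟨?_⟩⟩, ?_⟩, ?_⟩
    · rintro u (rfl | rfl | rfl | rfl)
      exacts [Y.one_mem, (z : Y).2, t.2, Y.mul_mem (z : Y).2 t.2]
    · rintro ⟨u, hu⟩ ⟨v, hv⟩
      refine Subtype.ext ?_
      rcases hu with rfl | rfl | rfl | rfl <;> rcases hv with rfl | rfl | rfl | rfl <;>
        simp [ha2, hb2, haa, hbb, hba, mul_assoc, hab.symm]
    · rintro u (rfl | rfl | rfl | rfl) <;> simp [pow_two, ha2, hb2, hba, haa, mul_assoc]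
    · have e1 : (1 : G) ≠ a * b := fun e => hab1 (by
        rw [← mul_left_cancel_iff (a := a), ha2, ← e])
      have e2 : a ≠ a * b := fun e => hb1 (mul_eq_left.mp e.symm)
      have e3 : b ≠ a * b := fun e => ha1 (mul_eq_right.mp e.symm)
      show Nat.card ({1, a, b, a * b} : Set G) = 4
      rw [Nat.card_coe_set_eq, Set.ncard_eq_toFinset_card']
      simp [ha1.symm, hb1.symm, hab1, e1, e2, e3]
  haveI : Fact p.Prime := ⟨hp⟩
  set α : MulAut Y := Y.normalizerMonoidHom ⟨x, hxY⟩ with hα
  have hα1 : α ≠ 1 := fun e => hmove fun y hy => by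
    refine mem_centralizer_singleton_iff.mpr ?_
    have := congrArg Subtype.val (congrArg (fun f : MulAut Y => f ⟨y, hy⟩) e)
    exact (mul_inv_eq_iff_eq_mul.mp this).symm
  have hαo : orderOf α = p := orderOf_eq_prime (by
    rw [hα, ← map_pow, show (⟨x, hxY⟩ : normalizer (Y : Set G)) ^ p = 1 from
      Subtype.ext (by simp [← hx, pow_orderOf_eq_one]), map_one]) hα1
  rcases S0016.result 2 hY (fun H K hH hK => by
      obtain ⟨u, hu⟩ := exists_prime_orderOf_dvd_card' (G := H) 2 (hH ▸ dvd_rfl)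
      obtain ⟨v, hv⟩ := exists_prime_orderOf_dvd_card' (G := K) 2 (hK ▸ dvd_rfl)
      have hH' : zpowers (u : Y) = H := eq_of_le_of_card_ge (zpowers_le.mpr u.2)
        (by rw [Nat.card_zpowers, Subgroup.orderOf_coe, hu, hH])
      have hK' : zpowers (v : Y) = K := eq_of_le_of_card_ge (zpowers_le.mpr v.2)
        (by rw [Nat.card_zpowers, Subgroup.orderOf_coe, hv, hK])
      rw [← hH', ← hK', huniq _ ((Subgroup.orderOf_coe u).trans hu),
        huniq _ ((Subgroup.orderOf_coe v).trans hv)]) with hcyc | ⟨-, n, ⟨e⟩⟩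
  · obtain ⟨n, hn⟩ := IsPGroup.iff_card.mp hY
    have hd : orderOf α ∣ Nat.card (MulAut Y) := orderOf_dvd_natCard α
    rw [IsCyclic.card_mulAut, hn, hαo] at hd
    rcases Nat.eq_zero_or_pos n with rfl | hn0
    · rw [pow_zero, Nat.totient_one] at hd
      exact hp.ne_one (Nat.dvd_one.mp hd)
    · rw [Nat.totient_prime_pow Nat.prime_two hn0, Nat.add_one_sub_one, mul_one] at hd
      have := (Nat.prime_dvd_prime_iff_eq hp Nat.prime_two).mp (hp.dvd_of_dvd_pow hd)
      omega
  · set β := MulAut.congr e α with hβ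
    have hβo : orderOf β = p := by rw [hβ, MulEquiv.orderOf_eq, hαo]
    obtain ⟨-, h3, -⟩ := H33.QuatAut.quaternion_aut β
      (hβo ▸ hp.odd_of_ne_two (by omega)) (fun e' => hp.ne_one (by rw [← hβo, e', orderOf_one]))
    have := Nat.le_of_dvd (by norm_num) (orderOf_dvd_of_pow_eq_one h3)
    omega

end Small

end Cfsg.Agent.H63.TwoGen
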