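import Cfsg.Agent.H63.TwoGen.Basic
import Cfsg.Agent.H1.Solubilizer
import Mathlib

/-!
# Flavell's theorem: reduction to the minimal counterexample
-/

set_option autoImplicit false
set_option linter.style.haveILetI false
open Cfsg

namespace Cfsg.Agent.H63.TwoGen

open Subgroup

universe u

/-- If no group satisfies `Hyp`, two-generated solvability implies solvability. -/
theorem solvable_of_contra
    (contra : ∀ (K : Type u) [Group K] [Finite K], Hyp K → False)
    (K : Type u) [Group K] [Finite K]
    (h : ∀ a b : K, Group.IsSolvable (closure ({a, b} : Set K))) : Group.IsSolvable K := by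
  suffices key : ∀ n : ℕ, ∀ (K : Type u) [Group K] [Finite K], Nat.card K = n →
      (∀ a b : K, Group.IsSolvable (closure ({a, b} : Set K))) → Group.IsSolvable K from
    key _ K rfl h
  intro n
  induction n using Nat.strong_induction_on with
  | _ n ih =>
    intro K _ _ hn h
    by_contra hns
    have hsub : ∀ H : Subgroup K, H ≠ ⊤ → Group.IsSolvable H := fun H hH =>
      ih _ (hn ▸ lt_of_le_of_ne H.card_le_card_group fun e => hH (H.card_eq_iff_eq_top.1 e)) H rfl
        fun a b => H1.Solubilizer.solvable_of_map H.subtype _ ⊥ (by simp) inferInstance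
          (by rw [H1.Solubilizer.map_closure_pair]; exact h _ _)
    refine contra K ⟨?_, hns, hsub, fun a b e => hns ?_⟩
    · haveI : Nontrivial K := by
        by_contra hc
        rw [not_nontrivial_iff_subsingleton] at hc
        exact hns (Group.isSolvable_of_comm fun a b => Subsingleton.elim _ _)
      refine ⟨fun N hN => or_iff_not_imp_left.2 fun h1 => ?_⟩
      by_contra h2
      haveI := hN
      refine hns (H1.Solubilizer.solvable_extension N (hsub N h2) (ih _ ?_ _ rfl fun a b => ?_))
      · rw [← hn, card_eq_card_quotient_mul_card_subgroup N]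
        exact lt_mul_of_one_lt_right Nat.card_pos ((N.one_lt_card_iff_ne_bot).2 h1)
      · obtain ⟨a, rfl⟩ := QuotientGroup.mk'_surjective N a
        obtain ⟨b, rfl⟩ := QuotientGroup.mk'_surjective N b
        rw [← H1.Solubilizer.map_closure_pair]
        exact H1.Solubilizer.solvable_map _ _ (h a b)
    · have := h a b
      rw [e] at this
      haveI := this
      exact Group.isSolvable_of_surjective (f := (Subgroup.topEquiv : (⊤ : Subgroup K) ≃* K).toMonoidHom)
        Subgroup.topEquiv.surjective

end Cfsg.Agent.H63.TwoGen
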