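import Cfsg.Agent.H63.TwoGen.Assembly
import Cfsg.Agent.H63.TwoGen.RankTwo
import Cfsg.Agent.H63.TwoGen.OddRankThree
import Cfsg.Agent.H63.TwoGen.Reduction
import Cfsg.Agent.H63.TwoGen.NoMovedTwo
import Mathlib

/-!
# Flavell's theorem

A finite group in which every two elements generate a solvable subgroup is solvable.
-/

set_option autoImplicit false
open Cfsg

namespace Cfsg.Agent.H63.TwoGen

open Subgroup

universe u
variable {G : Type u} [Group G] [Finite G]

theorem Hyp.len (h : Hyp G) {p : ℕ} [Fact p.Prime] (hp : 5 ≤ p) (hr : Cfsg.PRankLE p 2 G) :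
    Len G p :=
  ⟨hp, hr, fun _ hK _ hR => sup_normalizer h hp hr hK hR,
    fun _ hE hE2 _ hK hEK _ hUK hU hEU => le_coreOf_of_plane h hp hr hE hE2 hK hEK hUK hU hEU⟩

/-- There is no minimal counterexample. -/
theorem false_of_hyp (h : Hyp G) : False :=
  false_of_pieces h (fun _ _ hp _ hB hB3 _ hb hb1 => h.core_eq_bot hp hB hB3 hb hb1)
    (fun _ _ hp => h.pRankLE_two hp)
    (fun S hno _ _ hp hp5 hx Y hY hxY => h.two_group_centralized S hno
      (fun r hr hr5 => haveI := Fact.mk hr; h.pRankLE_two hr5) hp hp5 hx Y hY hxY)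
    (fun _ _ hp hr => h.len hp hr)
    (fun _ _ hp' _ _ hq2 hqp _ _ hQ hr _ hx hxQ =>
      centralizes_of_rank_two hp'.out hq2 hqp hQ hr hx hxQ)
    (fun _ hp' hp5 _ hY _ hx hxY hmove => two_group_has_four hp'.out hp5 hY hx hxY hmove)

/-- Flavell's theorem. -/
theorem solvable_of_pairs (K : Type u) [Group K] [Finite K]
    (h : ∀ a b : K, Group.IsSolvable (closure ({a, b} : Set K))) : Group.IsSolvable K :=
  solvable_of_contra (fun _ _ _ hK => false_of_hyp hK) K h

end Cfsg.Agent.H63.TwoGen
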