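import Cfsg.Agent.H63.TwoGen.Classes
import Cfsg.Agent.Coprime.Generation
import Cfsg.Agent.Coprime.Commutator
import Cfsg.Agent.Components.PAction
import Cfsg.Agent.Cores.Fitting
import Mathlib

/-!
# The moved part of a coprime action

If a coprime group `A` centralizes every invariant `r`-subgroup of the soluble group `O` for all
primes `r ≠ q`, then `[O, A]` is a `q`-group.
-/

set_option autoImplicit false
set_option linter.style.haveILetI false
open Cfsg

namespace Cfsg.Agent.H63.TwoGen

open Subgroup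
open scoped commutatorElement

universe u
variable {G : Type u} [Group G]

/-- `[O, A]` is normalized by `O`. -/
theorem le_normalizer_commutator_left (O A : Subgroup G) :
    O ≤ normalizer ((⁅O, A⁆ : Subgroup G) : Set G) := by
  have key : ∀ k ∈ O, ∀ x ∈ (⁅O, A⁆ : Subgroup G), k * x * k⁻¹ ∈ (⁅O, A⁆ : Subgroup G) := by
    intro k hk
    suffices h : ⁅O, A⁆ ≤ (⁅O, A⁆ : Subgroup G).comap (MulAut.conj k).toMonoidHom from fun x hx => h hx
    rw [commutator_le]
    intro g hg a ha
    show k * ⁅g, a⁆ * k⁻¹ ∈ (⁅O, A⁆ : Subgroup G)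
    rw [show k * ⁅g, a⁆ * k⁻¹ = ⁅k * g, a⁆ * ⁅k, a⁆⁻¹ by
      simp only [commutatorElement_def]; group]
    exact mul_mem (commutator_mem_commutator (mul_mem hk hg) ha)
      (inv_mem (commutator_mem_commutator hk ha))
  exact le_normalizer_iff.2 key

/-- The elements normalizing `W` whose commutators with `A` lie in `W`. -/
def fixMod (W A : Subgroup G) : Subgroup G where
  carrier := {g | g ∈ normalizer (W : Set G) ∧ ∀ a ∈ A, ⁅g, a⁆ ∈ W}
  one_mem' := ⟨one_mem _, fun a _ => by rw [commutatorElement_one_left]; exact one_mem W⟩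
  mul_mem' := by
    intro g k hg hk
    refine ⟨mul_mem hg.1 hk.1, fun a ha => ?_⟩
    rw [show ⁅g * k, a⁆ = g * ⁅k, a⁆ * g⁻¹ * ⁅g, a⁆ by simp only [commutatorElement_def]; group]
    exact mul_mem (Coprime.conj_mem hg.1 (hk.2 a ha)) (hg.2 a ha)
  inv_mem' := by
    intro g hg
    refine ⟨inv_mem hg.1, fun a ha => ?_⟩
    rw [show ⁅g⁻¹, a⁆ = g⁻¹ * ⁅g, a⁆⁻¹ * g⁻¹⁻¹ by simp only [commutatorElement_def]; group]
    exact Coprime.conj_mem (inv_mem hg.1) (inv_mem (hg.2 a ha))

theorem fixMod_le_normalizer (W A : Subgroup G) : fixMod W A ≤ normalizer (W : Set G) :=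
  fun _ h => h.1

theorem commutator_le_of_le_fixMod {W A O : Subgroup G} (h : O ≤ fixMod W A) : ⁅O, A⁆ ≤ W :=
  commutator_le.2 fun _ hg a ha => (h hg).2 a ha

/-- An elementary abelian group of order `p ^ 2` is not cyclic. -/
theorem not_isCyclic_of_plane [Finite G] {p : ℕ} [hp : Fact p.Prime] {E : Subgroup G}
    (hE : Cfsg.IsElementaryAbelian p E) (hE2 : Nat.card E = p ^ 2) : ¬ IsCyclic E := fun hc => by
  obtain ⟨g, hg⟩ := hc.exists_ofOrder_eq_natCard
  have h1 : orderOf g ∣ p := orderOf_dvd_of_pow_eq_one (Subtype.ext (by simpa using hE.2 g g.2))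
  rw [hg, hE2, pow_two] at h1
  have h2 := Nat.le_of_dvd hp.out.pos h1
  have h3 : p * 2 ≤ p * p := Nat.mul_le_mul_left p hp.out.two_le
  have := hp.out.pos
  omega

/-- A soluble group normalized coprimely by a plane is generated by fixed parts. -/
theorem le_of_plane [Finite G] {p : ℕ} [hp : Fact p.Prime] {E K M : Subgroup G}
    (hE : Cfsg.IsElementaryAbelian p E) (hE2 : Nat.card E = p ^ 2) (hEK : E ≤ normalizer (K : Set G))
    (hK : (Nat.card K).Coprime p) (hM : ∀ e ∈ E, e ≠ 1 → K ⊓ centralizer {e} ≤ M) : K ≤ M := by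
  haveI := hE.1
  refine Coprime.le_of_centralizer_noncyclic_le (not_isCyclic_of_plane hE hE2) hEK ?_ hM
  rw [hE2]
  exact hK.symm.pow_left 2

theorem characteristic_comap_quotient {X : Type u} [Group X] (N : Subgroup X) [N.Normal]
    [hN : N.Characteristic] (C : Subgroup (X ⧸ N)) [hC : C.Characteristic] :
    (C.comap (QuotientGroup.mk' N)).Characteristic := by
  rw [characteristic_iff_map_le]
  rintro φ _ ⟨x, hx, rfl⟩
  let ψ : X ⧸ N ≃* X ⧸ N := QuotientGroup.congr N N φ (characteristic_iff_map_eq.1 hN φ)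
  exact characteristic_iff_map_le.1 hC ψ ⟨QuotientGroup.mk' N x, hx, rfl⟩

/-- If `A` centralizes every invariant `r`-subgroup of `O` for all primes `r ≠ q`, then `[O, A]`
is a `q`-group. -/
theorem isPGroup_commutator [Finite G] {A O : Subgroup G} (hAO : A ≤ normalizer (O : Set G))
    (hcop : (Nat.card A).Coprime (Nat.card O)) (hO : Group.IsSolvable O) {q : ℕ} [hq : Fact q.Prime]
    (hr : ∀ r : ℕ, r.Prime → r ≠ q → ∀ R : Subgroup G, R ≤ O → IsPGroup r R →
      A ≤ normalizer (R : Set G) → R ≤ centralizer (A : Set G)) :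
    IsPGroup q (⁅O, A⁆ : Subgroup G) := by
  classical
  set X := ⁅O, A⁆ with hX
  have hXO : X ≤ O := Coprime.commutator_le_left_of_normalizer hAO
  have hXX : ⁅X, A⁆ = X := Coprime.commutator_commutator_eq hAO hcop (Or.inr hO)
  have hAX : A ≤ normalizer (X : Set G) := le_normalizer_iff_commutator_le_left.2 hXX.le
  haveI hXs : Group.IsSolvable X := Coprime.isSolvable_of_le hXO hO
  have hcopX : (Nat.card A).Coprime (Nat.card X) := Coprime.coprime_of_le hXO hcop
  set N := Cfsg.pCore q X with hN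
  set f := QuotientGroup.mk' N with hf
  set U := N.map X.subtype with hU
  have hAU : A ≤ normalizer (U : Set G) := Components.le_normalizer_map_characteristic _ hAX
  have hUX : U ≤ X := map_subtype_le _
  -- `A` acts trivially on the Fitting subgroup of `X / O_q(X)`
  have hfix : ∀ w : X, f w ∈ Cfsg.fittingSubgroup (X ⧸ N) → ∀ a ∈ A, ⁅(w : G), a⁆ ∈ U := by
    suffices hsup : Cfsg.fittingSubgroup (X ⧸ N) ≤ ((fixMod U A).subgroupOf X).map f by
      intro w hw a ha
      obtain ⟨v, hv, hvw⟩ := hsup hw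
      have hd : v⁻¹ * w ∈ N := QuotientGroup.eq.1 hvw
      have hwv : w ∈ (fixMod U A).subgroupOf X := by
        have h1 : v⁻¹ * w ∈ (fixMod U A).subgroupOf X :=
          ⟨le_normalizer (mem_map_of_mem X.subtype hd), fun b hb =>
            Coprime.commutator_le_left_of_normalizer hAU
              (commutator_mem_commutator (mem_map_of_mem X.subtype hd) hb)⟩
        simpa using mul_mem hv h1
      exact hwv.2 a ha
    rw [Cores.iSup_pCore_eq_fittingSubgroup]
    refine iSup_le fun r => ?_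
    haveI : Fact (r : ℕ).Prime := ⟨r.2⟩
    by_cases hrq : (r : ℕ) = q
    · rw [hrq, Cores.pCore_quotient_pCore]; exact bot_le
    set P := (Cfsg.pCore (r : ℕ) (X ⧸ N)).comap f with hP
    haveI : P.Characteristic := characteristic_comap_quotient N _
    set P' := P.map X.subtype with hP'
    have hAP : A ≤ normalizer (P' : Set G) := Components.le_normalizer_map_characteristic _ hAX
    have hcopP : (Nat.card A).Coprime (Nat.card P') :=
      Coprime.coprime_of_le ((map_subtype_le _).trans hXO) hcop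
    obtain ⟨R, hR⟩ := Coprime.exists_invariant_sylow hAP hcopP
      (Or.inr (Coprime.isSolvable_of_le ((map_subtype_le _).trans hXO) hO)) (r : ℕ)
    set R' := (R : Subgroup P').map P'.subtype with hR'
    have hR'X : R' ≤ X := (map_subtype_le _).trans (map_subtype_le _)
    have hR'C : R' ≤ centralizer (A : Set G) :=
      hr r r.2 hrq R' (hR'X.trans hXO) (R.isPGroup'.map _) hR
    have hR'F : R' ≤ fixMod U A := fun g hg =>
      ⟨Components.le_normalizer_map_characteristic _ le_normalizer (hR'X hg), fun a ha => by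
        rw [show ⁅g, a⁆ = 1 from commutatorElement_eq_one_iff_mul_comm.2
          (mem_centralizer_iff.1 (hR'C hg) a ha).symm]
        exact one_mem U⟩
    -- the image of the Sylow subgroup is the whole of the `r`-core
    have hPR : Cfsg.pCore (r : ℕ) (X ⧸ N) = (R'.subgroupOf X).map f := by
      have hRP : R' ≤ P' := map_subtype_le _
      have hsub : R'.subgroupOf X ≤ P := by
        intro w hw
        obtain ⟨w', hw', e⟩ := hRP hw
        exact (Subtype.ext e : w' = w) ▸ hw'
      refine le_antisymm ?_ ((map_mono hsub).trans (map_comap_le f _))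
      have hidx : (R'.subgroupOf X).relIndex P = (R : Subgroup P').index := by
        rw [← relIndex_map_map_of_injective (R'.subgroupOf X) P X.subtype_injective,
          map_subgroupOf_eq_of_le hR'X, ← hP', relIndex, subgroupOf, hR',
          comap_map_eq_self_of_injective P'.subtype_injective]
      have h1 : ((R'.subgroupOf X).map f).relIndex (P.map f) ∣ (R : Subgroup P').index := by
        rw [relIndex_map_map, ← hidx, QuotientGroup.ker_mk', sup_eq_left.2
          (show N ≤ P from fun x hx => by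
            rw [hP, mem_comap, hf, QuotientGroup.mk'_apply, (QuotientGroup.eq_one_iff x).2 hx]
            exact one_mem _)]
        exact relIndex_dvd_of_le_left _ le_sup_left
      rw [hP, map_comap_eq_self_of_surjective (QuotientGroup.mk'_surjective N)] at h1
      obtain ⟨k, hk⟩ := IsPGroup.iff_card.mp
        (Cores.pCore_isPGroup (p := (r : ℕ)) (G := X ⧸ N))
      rw [← relIndex_eq_one]
      exact Nat.eq_one_of_dvd_coprimes
        ((r.2.coprime_iff_not_dvd.mpr R.not_dvd_index).pow_left k) (hk ▸ relIndex_dvd_card _ _) h1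
    rw [hPR]
    exact map_mono (comap_mono hR'F)
  -- commutators of `X` with `A` centralize that Fitting subgroup
  have hcent : ∀ w : X, f w ∈ Cfsg.fittingSubgroup (X ⧸ N) := by
    haveI hs : Group.IsSolvable (X ⧸ N) :=
      Group.isSolvable_of_surjective (QuotientGroup.mk'_surjective N)
    set T := (Cfsg.fittingSubgroup (X ⧸ N)).comap f with hT
    suffices hle : X ≤ T.map X.subtype by
      intro w
      obtain ⟨w', hw', e⟩ := hle w.2
      exact (Subtype.ext e : w' = w) ▸ hw'
    conv_lhs => rw [← hXX]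
    rw [commutator_le]
    intro x hx a ha
    have hxa : ⁅x, a⁆ ∈ X := by rw [← hXX]; exact commutator_mem_commutator hx ha
    refine ⟨⟨⁅x, a⁆, hxa⟩, Cores.centralizer_fittingSubgroup_le (mem_centralizer_iff.2 ?_), rfl⟩
    intro w hw
    obtain ⟨y, rfl⟩ := QuotientGroup.mk'_surjective N w
    show f y * f ⟨⁅x, a⁆, hxa⟩ = f ⟨⁅x, a⁆, hxa⟩ * f y
    -- conjugation by `a` is trivial modulo `U` on `y` and on its conjugates
    have key : ∀ z : X, f z ∈ Cfsg.fittingSubgroup (X ⧸ N) → ∀ b ∈ A,
        ∃ hz : b * (z : G) * b⁻¹ ∈ X, f ⟨b * (z : G) * b⁻¹, hz⟩ = f z := by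
      intro z hz b hb
      refine ⟨Coprime.conj_mem (hAX hb) z.2, (QuotientGroup.eq).2 ?_⟩
      have h1 := hfix z hz b⁻¹ (inv_mem hb)
      have h2 : ((⟨b * (z : G) * b⁻¹, Coprime.conj_mem (hAX hb) z.2⟩ : X)⁻¹ * z : X) =
          (⟨b * (z : G) * b⁻¹, Coprime.conj_mem (hAX hb) z.2⟩ : X)⁻¹ * z := rfl
      have h3 : b * ((z : G)⁻¹ * (b⁻¹ * z * b)) * b⁻¹ ∈ U := by
        refine Coprime.conj_mem (hAU hb) ?_
        have h4 := Coprime.conj_mem
          (Components.le_normalizer_map_characteristic N le_normalizer (inv_mem z.2) :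
            (z : G)⁻¹ ∈ normalizer (U : Set G)) (inv_mem h1)
        convert h4 using 1
        simp only [commutatorElement_def]; group
      obtain ⟨v, hv, e⟩ := h3
      suffices heq : (⟨b * (z : G) * b⁻¹, Coprime.conj_mem (hAX hb) z.2⟩ : X)⁻¹ * z = v by
        rw [heq]; exact hv
      refine Subtype.ext ?_
      show (b * (z : G) * b⁻¹)⁻¹ * z = (v : G)
      have e' : (v : G) = b * ((z : G)⁻¹ * (b⁻¹ * z * b)) * b⁻¹ := e
      rw [e']; group
    -- apply it along `⁅x, a⁆⁻¹ * y * ⁅x, a⁆`
    set xx : X := ⟨x, hx⟩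
    set cc : X := ⟨⁅x, a⁆, hxa⟩
    have hz1 : f (xx⁻¹ * y * xx) ∈ Cfsg.fittingSubgroup (X ⧸ N) := by
      rw [map_mul, map_mul, map_inv]
      exact (inferInstance : (Cfsg.fittingSubgroup (X ⧸ N)).Normal).conj_mem' _ hw (f xx)
    obtain ⟨n1, g1⟩ := key _ hz1 a⁻¹ (inv_mem ha)
    set z2 : X := xx * ⟨a⁻¹ * ((xx⁻¹ * y * xx : X) : G) * a⁻¹⁻¹, n1⟩ * xx⁻¹
    have hz2 : f z2 = f y := by
      simp only [z2, map_mul, map_inv, g1]
      group
    obtain ⟨n2, g2⟩ := key z2 (hz2 ▸ hw) a ha
    have e5 : cc⁻¹ * y * cc = ⟨a * (z2 : G) * a⁻¹, n2⟩ := by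
      refine Subtype.ext ?_
      show (⁅x, a⁆)⁻¹ * (y : G) * ⁅x, a⁆ =
        a * (x * (a⁻¹ * (x⁻¹ * (y : G) * x) * a⁻¹⁻¹) * x⁻¹) * a⁻¹
      simp only [commutatorElement_def]; group
    calc f y * f cc = f cc * f (cc⁻¹ * y * cc) := by
          rw [← map_mul, ← map_mul]; exact congrArg f (by group)
      _ = _ := by rw [e5, g2, hz2]
  -- hence `X = [X, A] ≤ O_q(X)`
  have hXU : X ≤ U := by
    conv_lhs => rw [← hXX]
    exact commutator_le.2 fun x hx a ha => hfix ⟨x, hx⟩ (hcent _) a ha
  exact (Cores.pCore_isPGroup.map X.subtype).to_le hXU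

end Cfsg.Agent.H63.TwoGen
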