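import Cfsg.Agent.H63.TwoGen.Moved
import Cfsg.Agent.H47.Generation
import Cfsg.Agent.OddOrder.BG11.SylowOf
import Mathlib

/-!
# Planes in a simple group of rank two with `p`-length one

Elementary facts used in the last step of the proof of Flavell's theorem.
-/

set_option autoImplicit false
set_option linter.style.haveILetI false
open Cfsg

namespace Cfsg.Agent.H63.TwoGen

open Subgroup
open Cfsg.Agent.H47 (coreOf le_normalizer_coreOf coprime_coreOf coreOf_le)
open scoped commutatorElement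

universe u
variable {G : Type u} [Group G]

/-- The consequences of `p` being a large prime in the Flavell setting. -/
structure Len (G : Type u) [Group G] (p : ℕ) : Prop where
  five : 5 ≤ p
  rank : Cfsg.PRankLE p 2 G
  split : ∀ K : Subgroup G, K ≠ ⊤ → ∀ R : Subgroup G, H40.IsSylowOf p R K →
    K ≤ coreOf p K ⊔ (K ⊓ normalizer (R : Set G))
  le_core : ∀ E : Subgroup G, Cfsg.IsElementaryAbelian p E → Nat.card E = p ^ 2 →
    ∀ K : Subgroup G, K ≠ ⊤ → E ≤ K → ∀ U : Subgroup G, U ≤ K → (Nat.card U).Coprime p →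
      E ≤ normalizer (U : Set G) → U ≤ coreOf p K

theorem mem_conjMap {g x : G} {H : Subgroup G} (hx : x ∈ H) :
    g * x * g⁻¹ ∈ H.map (MulAut.conj g).toMonoidHom := ⟨x, hx, rfl⟩

theorem coprime_orderOf [Finite G] {p : ℕ} {H : Subgroup G} (hH : (Nat.card H).Coprime p) {u : G}
    (hu : u ∈ H) : (orderOf u).Coprime p :=
  Nat.Coprime.coprime_dvd_left (H.orderOf_dvd_natCard hu) hH

theorem eq_one_of_coprime_pow {p n : ℕ} {u : G} (h1 : (orderOf u).Coprime p)
    (h2 : u ^ p ^ n = 1) : u = 1 :=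
  orderOf_eq_one_iff.1 (Nat.eq_one_of_dvd_coprimes (h1.pow_right n) dvd_rfl
    (orderOf_dvd_of_pow_eq_one h2))

/-- A nontrivial power of an element of prime order generates the same cyclic subgroup. -/
theorem zpowers_eq_of_mem {p : ℕ} [hp : Fact p.Prime] {x y : G} (hx : orderOf x = p)
    (hy : y ∈ zpowers x) (hy1 : y ≠ 1) : zpowers y = zpowers x := by
  refine le_antisymm (zpowers_le.2 hy) ?_
  haveI : Fact (Nat.card (zpowers x)).Prime := ⟨by rw [Nat.card_zpowers, hx]; exact hp.out⟩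
  rcases ((zpowers y).subgroupOf (zpowers x)).eq_bot_or_eq_top_of_prime_card with hb | hb
  · have : (⟨y, hy⟩ : zpowers x) ∈ (zpowers y).subgroupOf (zpowers x) := mem_zpowers y
    rw [hb, mem_bot] at this
    exact absurd (congrArg Subtype.val this) hy1
  · exact subgroupOf_eq_top.1 hb

theorem mem_zpowers_comm {p : ℕ} [Fact p.Prime] {x y : G} (hx : orderOf x = p)
    (hy : y ∈ zpowers x) (hy1 : y ≠ 1) : x ∈ zpowers y := by
  rw [zpowers_eq_of_mem hx hy hy1]
  exact mem_zpowers x

/-- An element conjugated into its own cyclic subgroup normalizes it. -/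
theorem mem_normalizer_zpowers {p : ℕ} [Fact p.Prime] {z g : G} (hz : orderOf z = p)
    (h : g * z * g⁻¹ ∈ zpowers z) : g ∈ normalizer (zpowers z : Set G) := by
  refine Coprime.mem_normalizer_of_map_conj ?_
  rw [MonoidHom.map_zpowers]
  refine zpowers_eq_of_mem hz h fun e => ?_
  have : z = 1 := by simpa using conj_eq_one_iff.1 e
  rw [this, orderOf_one] at hz
  exact (Fact.out : p.Prime).one_lt.ne hz

section Plane

variable [Finite G] {p : ℕ} [hp : Fact p.Prime]

/-- Two commuting independent elements of order `p` span a plane. -/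
theorem exists_plane {a b : G} (ha : orderOf a = p) (hb : orderOf b = p) (hab : Commute a b)
    (hnot : b ∉ zpowers a) :
    ∃ E : Subgroup G, Cfsg.IsElementaryAbelian p E ∧ Nat.card E = p ^ 2 ∧ a ∈ E ∧ b ∈ E := by
  have hcen : zpowers b ≤ centralizer (zpowers a : Set G) := by
    rw [zpowers_le]
    intro y hy
    obtain ⟨i, rfl⟩ := hy
    exact (hab.zpow_left i).eq
  have hnorm : zpowers b ≤ normalizer (zpowers a : Set G) := hcen.trans (centralizer_le_normalizer _)
  refine ⟨zpowers a ⊔ zpowers b, ?_, ?_, mem_sup_left (mem_zpowers a), mem_sup_right (mem_zpowers b)⟩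
  · have key : ∀ s ∈ zpowers a ⊔ zpowers b, ∃ i j : ℤ, s = a ^ i * b ^ j := by
      intro s hs
      obtain ⟨n, ⟨i, rfl⟩, m, ⟨j, rfl⟩, rfl⟩ := (Coprime.mem_sup_iff hnorm).1 hs
      exact ⟨i, j, rfl⟩
    refine ⟨⟨⟨fun s t => Subtype.ext ?_⟩⟩, fun s hs => ?_⟩
    · obtain ⟨i, j, hs⟩ := key s s.2
      obtain ⟨k, l, ht⟩ := key t t.2
      show (s : G) * t = t * s
      rw [hs, ht]
      have h1 : Commute (a ^ i) (a ^ k * b ^ l) :=
        (((Commute.refl a).zpow_zpow i k)).mul_right (hab.zpow_zpow i l)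
      have h2 : Commute (b ^ j) (a ^ k * b ^ l) :=
        ((hab.zpow_zpow k j).symm).mul_right ((Commute.refl b).zpow_zpow j l)
      exact (h1.mul_left h2).eq
    · obtain ⟨i, j, rfl⟩ := key s hs
      rw [(hab.zpow_zpow i j).mul_pow, ← zpow_natCast (a ^ i), ← zpow_natCast (b ^ j),
        ← zpow_mul, mul_comm i, zpow_mul, ← zpow_mul b, mul_comm j, zpow_mul b, zpow_natCast,
        zpow_natCast, ← ha, pow_orderOf_eq_one, one_zpow, one_mul, ha, ← hb, pow_orderOf_eq_one,
        one_zpow]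
  · rw [Coprime.card_sup hnorm ?_, Nat.card_zpowers, Nat.card_zpowers, ha, hb, pow_two]
    rw [eq_bot_iff]
    intro y hy
    by_contra hy1
    obtain ⟨hya, hyb⟩ := hy
    exact hnot (zpowers_eq_of_mem ha hya hy1 ▸ mem_zpowers_comm hb hyb hy1)

variable {E : Subgroup G}

omit [Finite G] in
theorem orderOf_of_mem_plane (hE : Cfsg.IsElementaryAbelian p E) {e : G} (he : e ∈ E) (he1 : e ≠ 1) :
    orderOf e = p :=
  orderOf_eq_prime (hE.2 e he) he1

theorem le_centralizer_singleton (hE : Cfsg.IsElementaryAbelian p E) {e : G} (he : e ∈ E) :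
    E ≤ centralizer ({e} : Set G) := fun _ hb =>
  mem_centralizer_singleton_iff.2 (H47.commute_of_elementaryAbelian hE hb he).eq

omit hp [Finite G] in
theorem centralizer_le_singleton {e : G} (he : e ∈ E) :
    centralizer (E : Set G) ≤ centralizer ({e} : Set G) :=
  centralizer_le (Set.singleton_subset_iff.2 he)

theorem exists_independent (hE2 : Nat.card E = p ^ 2) {x : G} (hx : orderOf x = p) :
    ∃ c ∈ E, c ∉ zpowers x := by
  by_contra hc
  push Not at hc
  have h1 := Nat.le_of_dvd Nat.card_pos (card_dvd_of_le (show E ≤ zpowers x from hc))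
  rw [hE2, Nat.card_zpowers, hx] at h1
  have h2 : p ^ 1 < p ^ 2 := Nat.pow_lt_pow_right hp.out.one_lt (by norm_num)
  rw [pow_one] at h2
  omega

/-- A subgroup containing two independent elements of a plane contains the plane. -/
theorem plane_le (hE : Cfsg.IsElementaryAbelian p E) (hE2 : Nat.card E = p ^ 2) {K : Subgroup G}
    {x c : G} (hx : x ∈ E) (hxK : x ∈ K) (hc : c ∈ E) (hcK : c ∈ K) (hx1 : x ≠ 1)
    (hnot : c ∉ zpowers x) : E ≤ K := by
  have hox := orderOf_of_mem_plane hE hx hx1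
  have hlt : zpowers x < E ⊓ K :=
    lt_of_le_of_ne (zpowers_le.2 ⟨hx, hxK⟩) fun e => hnot (e ▸ ⟨hc, hcK⟩)
  have hdvd : Nat.card (E ⊓ K : Subgroup G) ∣ p ^ 2 := hE2 ▸ card_dvd_of_le inf_le_left
  obtain ⟨i, hi, hcard⟩ := (Nat.dvd_prime_pow hp.out).1 hdvd
  have hgt : p < Nat.card (E ⊓ K : Subgroup G) := by
    rw [← hox, ← Nat.card_zpowers]
    by_contra hle
    push Not at hle
    exact hlt.ne (eq_of_le_of_card_ge hlt.le hle)
  have : i = 2 := by
    interval_cases i <;> simp_all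
    have := hp.out.pos
    omega
  exact inf_eq_left.1 (eq_of_le_of_card_ge inf_le_left (by rw [hE2, hcard, this]))

/-- In rank two a plane contains every element of order `p` commuting with it. -/
theorem mem_of_commute (hr : Cfsg.PRankLE p 2 G) (hE : Cfsg.IsElementaryAbelian p E)
    (hE2 : Nat.card E = p ^ 2) {y : G} (hy : y ^ p = 1) (hcomm : ∀ e ∈ E, Commute e y) : y ∈ E := by
  by_contra hyE
  have hy1 : y ≠ 1 := fun e => hyE (e ▸ one_mem E)
  have hoy : orderOf y = p := orderOf_eq_prime hy hy1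
  have hn : zpowers y ≤ normalizer (E : Set G) := by
    rw [zpowers_le]
    exact centralizer_le_normalizer _ (mem_centralizer_iff.2 fun e he => (hcomm e he).eq)
  have hd : E ⊓ zpowers y = ⊥ := by
    rw [eq_bot_iff]
    intro s hs
    by_contra hs1
    exact hyE ((zpowers_le.2 hs.1) (mem_zpowers_comm hoy hs.2 hs1))
  have hcard := Coprime.card_sup hn hd
  rw [hE2, Nat.card_zpowers, hoy, ← pow_succ] at hcard
  have key : ∀ s ∈ E ⊔ zpowers y, ∃ e ∈ E, ∃ i : ℤ, s = e * y ^ i := by
    intro s hs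
    obtain ⟨e, he, m, ⟨i, rfl⟩, rfl⟩ := (Coprime.mem_sup_iff hn).1 hs
    exact ⟨e, he, i, rfl⟩
  have := hr (E ⊔ zpowers y) ⟨⟨fun s t => Subtype.ext ?_⟩⟩ (fun s hs => ?_)
  · rw [hcard] at this
    have := (Nat.pow_le_pow_iff_right hp.out.one_lt).1 this
    omega
  · obtain ⟨e, he, i, hs⟩ := key s s.2
    obtain ⟨f, hf, j, ht⟩ := key t t.2
    show (s : G) * t = t * s
    rw [hs, ht]
    have h1 : Commute e (f * y ^ j) :=
      (H47.commute_of_elementaryAbelian hE he hf).mul_right ((hcomm e he).zpow_right j)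
    have h2 : Commute (y ^ i) (f * y ^ j) :=
      ((hcomm f hf).zpow_right i).symm.mul_right ((Commute.refl y).zpow_zpow i j)
    exact (h1.mul_left h2).eq
  · obtain ⟨e, he, i, rfl⟩ := key s hs
    rw [((hcomm e he).zpow_right i).mul_pow, hE.2 e he, one_mul, ← zpow_natCast, ← zpow_mul,
      mul_comm, zpow_mul, zpow_natCast, hy, one_zpow]

end Plane

section Split

variable [Finite G] {p : ℕ} [hp : Fact p.Prime] {K R : Subgroup G}

omit [Finite G] hp in
theorem le_normalizer_core_sup (hL : Len G p) (hK : K ≠ ⊤) (hR : H40.IsSylowOf p R K) :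
    K ≤ normalizer ((coreOf p K ⊔ R : Subgroup G) : Set G) := by
  refine (hL.split K hK R hR).trans (sup_le (le_sup_left.trans le_normalizer) fun g hg => ?_)
  refine Coprime.mem_normalizer_of_map_conj ?_
  rw [Subgroup.map_sup, Coprime.map_conj_eq (le_normalizer_coreOf K hg.1), Coprime.map_conj_eq hg.2]

/-- All `p`-elements lie in the preimage of the normal Sylow subgroup. -/
theorem mem_core_sup (hL : Len G p) (hK : K ≠ ⊤) (hR : H40.IsSylowOf p R K) {a : G} (ha : a ∈ K)
    (hpa : IsPGroup p (zpowers a)) : a ∈ coreOf p K ⊔ R := by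
  obtain ⟨m, hm, hle⟩ := OddOrder.BG11.exists_conj_le hR hpa (zpowers_le.2 ha)
  have h1 : m * a * m⁻¹ ∈ coreOf p K ⊔ R := mem_sup_right (hle (mem_conjMap (mem_zpowers a)))
  have h2 := Coprime.conj_mem' (le_normalizer_core_sup hL hK hR hm) h1
  simpa [mul_assoc] using h2

theorem mem_core_of_coprime (hR : H40.IsSylowOf p R K) {v : G} (hv : v ∈ coreOf p K ⊔ R)
    (hord : (orderOf v).Coprime p) : v ∈ coreOf p K := by
  obtain ⟨o, ho, r, hr, rfl⟩ := (Coprime.mem_sup_iff (hR.1.trans (le_normalizer_coreOf K))).1 hv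
  obtain ⟨n, hn⟩ := IsPGroup.iff_card.1 hR.2.1
  have hrn : r ^ p ^ n = 1 := hn ▸ orderOf_dvd_iff_pow_eq_one.1 (R.orderOf_dvd_natCard hr)
  -- powers of `o * r` are congruent to powers of `r`
  have key : ∀ k : ℕ, ∃ o' ∈ coreOf p K, (o * r) ^ k = o' * r ^ k := by
    intro k
    induction k with
    | zero => exact ⟨1, one_mem _, by simp⟩
    | succ k ih =>
      obtain ⟨o', ho', he⟩ := ih
      refine ⟨o' * (r ^ k * o * (r ^ k)⁻¹),
        mul_mem ho' (Coprime.conj_mem (le_normalizer_coreOf K (hR.1 (pow_mem hr k))) ho), ?_⟩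
      rw [pow_succ, pow_succ, he]
      group
  obtain ⟨o', ho', he⟩ := key (p ^ n)
  rw [hrn, mul_one] at he
  obtain ⟨k, hk⟩ := exists_pow_eq_self_of_coprime (x := o * r) (n := p ^ n) (hord.symm.pow_left n)
  rw [← hk, he]
  exact pow_mem ho' k

end Split

/-- An element of order `p` and its conjugate by an element of a normalized `p'`-group are
conjugate inside the subgroup they generate. -/
theorem exists_conj_in_pair [Finite G] {p : ℕ} [hp : Fact p.Prime] {Q : Subgroup G} {x v : G}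
    (hx : orderOf x = p) (hQ : (Nat.card Q).Coprime p) (hxQ : x ∈ normalizer (Q : Set G))
    (hv : v ∈ Q) :
    ∃ k ∈ closure ({x, v * x * v⁻¹} : Set G), k * x * k⁻¹ = v * x * v⁻¹ := by
  set y := v * x * v⁻¹ with hy
  set L := Q ⊔ zpowers x
  have hxn : zpowers x ≤ normalizer (Q : Set G) := zpowers_le.2 hxQ
  have hd : Q ⊓ zpowers x = ⊥ := Coprime.inf_eq_bot (by rw [Nat.card_zpowers, hx]; exact hQ)
  have hL : Nat.card L = Nat.card Q * p := by rw [Coprime.card_sup hxn hd, Nat.card_zpowers, hx]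
  have hyL : y ∈ L := mul_mem (mul_mem (mem_sup_left hv) (mem_sup_right (mem_zpowers x)))
    (inv_mem (mem_sup_left hv))
  set K0 := closure ({x, y} : Set G)
  have hK0 : K0 ≤ L := (closure_le L).2 (by
    intro z hz
    rcases hz with rfl | rfl
    · exact mem_sup_right (mem_zpowers z)
    · exact hyL)
  have hoy : orderOf y = p := by
    have := MulEquiv.orderOf_eq (MulAut.conj v) x
    rw [MulAut.conj_apply, hx] at this
    exact this
  have hsyl : ∀ w ∈ K0, orderOf w = p → H40.IsSylowOf p (zpowers w) K0 := by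
    intro w hw ho
    refine ⟨zpowers_le.2 hw, IsPGroup.of_card (n := 1) (by rw [Nat.card_zpowers, ho, pow_one]), ?_⟩
    rw [Nat.card_zpowers, ho]
    have h1 : (Nat.card K0).factorization p ≤ 1 := by
      have h2 := (Nat.factorization_le_iff_dvd Nat.card_pos.ne' Nat.card_pos.ne').2
        (card_dvd_of_le hK0) p
      refine h2.trans_eq ?_
      rw [hL, Nat.factorization_mul Nat.card_pos.ne' hp.out.ne_zero, Finsupp.add_apply,
        Nat.factorization_eq_zero_of_not_dvd ((hp.out.coprime_iff_not_dvd).1 hQ.symm),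
        hp.out.factorization_self]
    have h3 : 1 ≤ (Nat.card K0).factorization p :=
      hp.out.factorization_pos_of_dvd Nat.card_pos.ne' (ho ▸ K0.orderOf_dvd_natCard hw)
    rw [show (Nat.card K0).factorization p = 1 by omega, pow_one]
  obtain ⟨k, hk, he⟩ := OddOrder.BG11.exists_conj_eq (hsyl y (mem_pair_right _ _) hoy)
    (hsyl x (mem_pair_left _ _) hx)
  refine ⟨k, hk, ?_⟩
  have hky : k * x * k⁻¹ ∈ zpowers y := he ▸ mem_conjMap (mem_zpowers x)
  have hmod : ∀ g ∈ L, g * x * g⁻¹ * x⁻¹ ∈ Q := by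
    intro g hg
    obtain ⟨n, hn, a, ⟨i, rfl⟩, rfl⟩ := (Coprime.mem_sup_iff hxn).1 hg
    rw [show n * x ^ i * x * (n * x ^ i)⁻¹ * x⁻¹ = n * (x * n⁻¹ * x⁻¹) by group]
    exact mul_mem hn (Coprime.conj_mem hxQ (inv_mem hn))
  have hQy : k * x * k⁻¹ * y⁻¹ ∈ Q := by
    rw [show k * x * k⁻¹ * y⁻¹ = k * x * k⁻¹ * x⁻¹ * (v * x * v⁻¹ * x⁻¹)⁻¹ by rw [hy]; group]
    exact mul_mem (hmod k (hK0 hk)) (inv_mem (hmod v (mem_sup_left hv)))
  have hQy' : k * x * k⁻¹ * y⁻¹ ∈ Q ⊓ zpowers y :=
    Subgroup.mem_inf.2 ⟨hQy, mul_mem hky (inv_mem (mem_zpowers y))⟩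
  rw [Coprime.inf_eq_bot (by rw [Nat.card_zpowers, hoy]; exact hQ), mem_bot,
    mul_inv_eq_one] at hQy'
  exact hQy'

end Cfsg.Agent.H63.TwoGen
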